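import Cfsg.Agent.Lib.Grp.Co1.Defs

set_option autoImplicit false
set_option maxRecDepth 100000
set_option Elab.async false
set_option linter.unusedSectionVars false

namespace Cfsg.Agent.CG.Co1

theorem c72 : chkDef 24 (appB tabs t60 0xffffff) 14 (slp 14) 20000 20000 = true := by decide +kernel
theorem c73 : chkDef 24 (appB tabs t60 0xffffff) 14 (slp 14) 40000 20000 = true := by decide +kernel
theorem c74 : chkDef 24 (appB tabs t60 0xffffff) 14 (slp 14) 60000 20000 = true := by decide +kernel
theorem c75 : chkDef 24 (appB tabs t60 0xffffff) 14 (slp 14) 80000 18280 = true := by decide +kernel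
theorem c76 : chkDef 24 (appB tabs t60 0xffffff) 15 (slp 15) 0 20000 = true := by decide +kernel
theorem c77 : chkDef 24 (appB tabs t60 0xffffff) 15 (slp 15) 20000 20000 = true := by decide +kernel
theorem c78 : chkDef 24 (appB tabs t60 0xffffff) 15 (slp 15) 40000 20000 = true := by decide +kernel
theorem c79 : chkDef 24 (appB tabs t60 0xffffff) 15 (slp 15) 60000 20000 = true := by decide +kernel
theorem c80 : chkDef 24 (appB tabs t60 0xffffff) 15 (slp 15) 80000 18280 = true := by decide +kernel
theorem c81 : chkDef 24 (appB tabs t60 0xffffff) 16 (slp 16) 0 20000 = true := by decide +kernel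
theorem c82 : chkDef 24 (appB tabs t60 0xffffff) 16 (slp 16) 20000 20000 = true := by decide +kernel
theorem c83 : chkDef 24 (appB tabs t60 0xffffff) 16 (slp 16) 40000 20000 = true := by decide +kernel
theorem c84 : chkDef 24 (appB tabs t60 0xffffff) 16 (slp 16) 60000 20000 = true := by decide +kernel
theorem c85 : chkDef 24 (appB tabs t60 0xffffff) 16 (slp 16) 80000 18280 = true := by decide +kernel
theorem c86 : chkDef 24 (appB tabs t60 0xffffff) 17 (slp 17) 0 20000 = true := by decide +kernel
theorem c87 : chkDef 24 (appB tabs t60 0xffffff) 17 (slp 17) 20000 20000 = true := by decide +kernel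
theorem c88 : chkDef 24 (appB tabs t60 0xffffff) 17 (slp 17) 40000 20000 = true := by decide +kernel
theorem c89 : chkDef 24 (appB tabs t60 0xffffff) 17 (slp 17) 60000 20000 = true := by decide +kernel
theorem c90 : chkDef 24 (appB tabs t60 0xffffff) 17 (slp 17) 80000 18280 = true := by decide +kernel
theorem c91 : chkDef 24 (appB tabs t60 0xffffff) 18 (slp 18) 0 20000 = true := by decide +kernel
theorem c92 : chkDef 24 (appB tabs t60 0xffffff) 18 (slp 18) 20000 20000 = true := by decide +kernel
theorem c93 : chkDef 24 (appB tabs t60 0xffffff) 18 (slp 18) 40000 20000 = true := by decide +kernel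
theorem c94 : chkDef 24 (appB tabs t60 0xffffff) 18 (slp 18) 60000 20000 = true := by decide +kernel
theorem c95 : chkDef 24 (appB tabs t60 0xffffff) 18 (slp 18) 80000 18280 = true := by decide +kernel
theorem c96 : chkDef 24 (appB tabs t60 0xffffff) 19 (slp 19) 0 20000 = true := by decide +kernel
theorem c97 : chkDef 24 (appB tabs t60 0xffffff) 19 (slp 19) 20000 20000 = true := by decide +kernel
theorem c98 : chkDef 24 (appB tabs t60 0xffffff) 19 (slp 19) 40000 20000 = true := by decide +kernel
theorem c99 : chkDef 24 (appB tabs t60 0xffffff) 19 (slp 19) 60000 20000 = true := by decide +kernel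
theorem c100 : chkDef 24 (appB tabs t60 0xffffff) 19 (slp 19) 80000 18280 = true := by decide +kernel
theorem c101 : chkDef 24 (appB tabs t60 0xffffff) 20 (slp 20) 0 20000 = true := by decide +kernel
theorem c102 : chkDef 24 (appB tabs t60 0xffffff) 20 (slp 20) 20000 20000 = true := by decide +kernel
theorem c103 : chkDef 24 (appB tabs t60 0xffffff) 20 (slp 20) 40000 20000 = true := by decide +kernel
theorem c104 : chkDef 24 (appB tabs t60 0xffffff) 20 (slp 20) 60000 20000 = true := by decide +kernel
theorem c105 : chkDef 24 (appB tabs t60 0xffffff) 20 (slp 20) 80000 18280 = true := by decide +kernel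
theorem c106 : chkDef 24 (appB tabs t60 0xffffff) 21 (slp 21) 0 20000 = true := by decide +kernel
theorem c107 : chkDef 24 (appB tabs t60 0xffffff) 21 (slp 21) 20000 20000 = true := by decide +kernel
theorem c108 : chkDef 24 (appB tabs t60 0xffffff) 21 (slp 21) 40000 20000 = true := by decide +kernel
theorem c109 : chkDef 24 (appB tabs t60 0xffffff) 21 (slp 21) 60000 20000 = true := by decide +kernel
theorem c110 : chkDef 24 (appB tabs t60 0xffffff) 21 (slp 21) 80000 18280 = true := by decide +kernel
theorem c111 : chkDef 24 (appB tabs t60 0xffffff) 22 (slp 22) 0 20000 = true := by decide +kernel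
theorem c112 : chkDef 24 (appB tabs t60 0xffffff) 22 (slp 22) 20000 20000 = true := by decide +kernel
theorem c113 : chkDef 24 (appB tabs t60 0xffffff) 22 (slp 22) 40000 20000 = true := by decide +kernel
theorem c114 : chkDef 24 (appB tabs t60 0xffffff) 22 (slp 22) 60000 20000 = true := by decide +kernel
theorem c115 : chkDef 24 (appB tabs t60 0xffffff) 22 (slp 22) 80000 18280 = true := by decide +kernel
theorem c116 : chkDef 24 (appB tabs t60 0xffffff) 23 (slp 23) 0 20000 = true := by decide +kernel
theorem c117 : chkDef 24 (appB tabs t60 0xffffff) 23 (slp 23) 20000 20000 = true := by decide +kernel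
theorem c118 : chkDef 24 (appB tabs t60 0xffffff) 23 (slp 23) 40000 20000 = true := by decide +kernel
theorem c119 : chkDef 24 (appB tabs t60 0xffffff) 23 (slp 23) 60000 20000 = true := by decide +kernel
theorem c120 : chkDef 24 (appB tabs t60 0xffffff) 23 (slp 23) 80000 18280 = true := by decide +kernel
theorem c121 : chkDef 24 (appB tabs t60 0xffffff) 24 (slp 24) 0 20000 = true := by decide +kernel
theorem c122 : chkDef 24 (appB tabs t60 0xffffff) 24 (slp 24) 20000 20000 = true := by decide +kernel
theorem c123 : chkDef 24 (appB tabs t60 0xffffff) 24 (slp 24) 40000 20000 = true := by decide +kernel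
theorem c124 : chkDef 24 (appB tabs t60 0xffffff) 24 (slp 24) 60000 20000 = true := by decide +kernel
theorem c125 : chkDef 24 (appB tabs t60 0xffffff) 24 (slp 24) 80000 18280 = true := by decide +kernel
theorem c126 : chkDef 24 (appB tabs t60 0xffffff) 25 (slp 25) 0 20000 = true := by decide +kernel
theorem c127 : chkDef 24 (appB tabs t60 0xffffff) 25 (slp 25) 20000 20000 = true := by decide +kernel
theorem c128 : chkDef 24 (appB tabs t60 0xffffff) 25 (slp 25) 40000 20000 = true := by decide +kernel
theorem c129 : chkDef 24 (appB tabs t60 0xffffff) 25 (slp 25) 60000 20000 = true := by decide +kernel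
theorem c130 : chkDef 24 (appB tabs t60 0xffffff) 25 (slp 25) 80000 18280 = true := by decide +kernel
theorem c131 : chkDef 24 (appB tabs t60 0xffffff) 26 (slp 26) 0 20000 = true := by decide +kernel
theorem c132 : chkDef 24 (appB tabs t60 0xffffff) 26 (slp 26) 20000 20000 = true := by decide +kernel
theorem c133 : chkDef 24 (appB tabs t60 0xffffff) 26 (slp 26) 40000 20000 = true := by decide +kernel
theorem c134 : chkDef 24 (appB tabs t60 0xffffff) 26 (slp 26) 60000 20000 = true := by decide +kernel
theorem c135 : chkDef 24 (appB tabs t60 0xffffff) 26 (slp 26) 80000 18280 = true := by decide +kernel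
theorem c136 : chkDef 24 (appB tabs t60 0xffffff) 27 (slp 27) 0 20000 = true := by decide +kernel
theorem c137 : chkDef 24 (appB tabs t60 0xffffff) 27 (slp 27) 20000 20000 = true := by decide +kernel
theorem c138 : chkDef 24 (appB tabs t60 0xffffff) 27 (slp 27) 40000 20000 = true := by decide +kernel
theorem c139 : chkDef 24 (appB tabs t60 0xffffff) 27 (slp 27) 60000 20000 = true := by decide +kernel
theorem c140 : chkDef 24 (appB tabs t60 0xffffff) 27 (slp 27) 80000 18280 = true := by decide +kernel
theorem c141 : chkDef 24 (appB tabs t60 0xffffff) 28 (slp 28) 0 20000 = true := by decide +kernel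
theorem c142 : chkDef 24 (appB tabs t60 0xffffff) 28 (slp 28) 20000 20000 = true := by decide +kernel
theorem c143 : chkDef 24 (appB tabs t60 0xffffff) 28 (slp 28) 40000 20000 = true := by decide +kernel
theorem c144 : chkDef 24 (appB tabs t60 0xffffff) 28 (slp 28) 60000 20000 = true := by decide +kernel
theorem c145 : chkDef 24 (appB tabs t60 0xffffff) 28 (slp 28) 80000 18280 = true := by decide +kernel
theorem c146 : chkDef 24 (appB tabs t60 0xffffff) 29 (slp 29) 0 20000 = true := by decide +kernel
theorem c147 : chkDef 24 (appB tabs t60 0xffffff) 29 (slp 29) 20000 20000 = true := by decide +kernel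
theorem c148 : chkDef 24 (appB tabs t60 0xffffff) 29 (slp 29) 40000 20000 = true := by decide +kernel
theorem c149 : chkDef 24 (appB tabs t60 0xffffff) 29 (slp 29) 60000 20000 = true := by decide +kernel
theorem c150 : chkDef 24 (appB tabs t60 0xffffff) 29 (slp 29) 80000 18280 = true := by decide +kernel
theorem c151 : chkDef 24 (appB tabs t60 0xffffff) 30 (slp 30) 0 20000 = true := by decide +kernel
theorem c152 : chkDef 24 (appB tabs t60 0xffffff) 30 (slp 30) 20000 20000 = true := by decide +kernel
theorem c153 : chkDef 24 (appB tabs t60 0xffffff) 30 (slp 30) 40000 20000 = true := by decide +kernel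
theorem c154 : chkDef 24 (appB tabs t60 0xffffff) 30 (slp 30) 60000 20000 = true := by decide +kernel
theorem c155 : chkDef 24 (appB tabs t60 0xffffff) 30 (slp 30) 80000 18280 = true := by decide +kernel
theorem c156 : chkDef 24 (appB tabs t60 0xffffff) 31 (slp 31) 0 20000 = true := by decide +kernel
theorem c157 : chkDef 24 (appB tabs t60 0xffffff) 31 (slp 31) 20000 20000 = true := by decide +kernel
theorem c158 : chkDef 24 (appB tabs t60 0xffffff) 31 (slp 31) 40000 20000 = true := by decide +kernel
theorem c159 : chkDef 24 (appB tabs t60 0xffffff) 31 (slp 31) 60000 20000 = true := by decide +kernel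
theorem c160 : chkDef 24 (appB tabs t60 0xffffff) 31 (slp 31) 80000 18280 = true := by decide +kernel

end Cfsg.Agent.CG.Co1
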