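import Cfsg.Agent.Lib.Grp.Co1.Defs

set_option autoImplicit false
set_option maxRecDepth 100000
set_option Elab.async false
set_option linter.unusedSectionVars false

namespace Cfsg.Agent.CG.Co1

theorem c161 : chkDef 24 (appB tabs t60 0xffffff) 32 (slp 32) 0 20000 = true := by decide +kernel
theorem c162 : chkDef 24 (appB tabs t60 0xffffff) 32 (slp 32) 20000 20000 = true := by decide +kernel
theorem c163 : chkDef 24 (appB tabs t60 0xffffff) 32 (slp 32) 40000 20000 = true := by decide +kernel
theorem c164 : chkDef 24 (appB tabs t60 0xffffff) 32 (slp 32) 60000 20000 = true := by decide +kernel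
theorem c165 : chkDef 24 (appB tabs t60 0xffffff) 32 (slp 32) 80000 18280 = true := by decide +kernel
theorem c166 : chkDef 24 (appB tabs t60 0xffffff) 33 (slp 33) 0 20000 = true := by decide +kernel
theorem c167 : chkDef 24 (appB tabs t60 0xffffff) 33 (slp 33) 20000 20000 = true := by decide +kernel
theorem c168 : chkDef 24 (appB tabs t60 0xffffff) 33 (slp 33) 40000 20000 = true := by decide +kernel
theorem c169 : chkDef 24 (appB tabs t60 0xffffff) 33 (slp 33) 60000 20000 = true := by decide +kernel
theorem c170 : chkDef 24 (appB tabs t60 0xffffff) 33 (slp 33) 80000 18280 = true := by decide +kernel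
theorem c171 : chkDef 24 (appB tabs t60 0xffffff) 34 (slp 34) 0 20000 = true := by decide +kernel
theorem c172 : chkDef 24 (appB tabs t60 0xffffff) 34 (slp 34) 20000 20000 = true := by decide +kernel
theorem c173 : chkDef 24 (appB tabs t60 0xffffff) 34 (slp 34) 40000 20000 = true := by decide +kernel
theorem c174 : chkDef 24 (appB tabs t60 0xffffff) 34 (slp 34) 60000 20000 = true := by decide +kernel
theorem c175 : chkDef 24 (appB tabs t60 0xffffff) 34 (slp 34) 80000 18280 = true := by decide +kernel
theorem c176 : chkDef 24 (appB tabs t60 0xffffff) 35 (slp 35) 0 20000 = true := by decide +kernel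
theorem c177 : chkDef 24 (appB tabs t60 0xffffff) 35 (slp 35) 20000 20000 = true := by decide +kernel
theorem c178 : chkDef 24 (appB tabs t60 0xffffff) 35 (slp 35) 40000 20000 = true := by decide +kernel
theorem c179 : chkDef 24 (appB tabs t60 0xffffff) 35 (slp 35) 60000 20000 = true := by decide +kernel
theorem c180 : chkDef 24 (appB tabs t60 0xffffff) 35 (slp 35) 80000 18280 = true := by decide +kernel
theorem c181 : chkDef 24 (appB tabs t60 0xffffff) 36 (slp 36) 0 20000 = true := by decide +kernel
theorem c182 : chkDef 24 (appB tabs t60 0xffffff) 36 (slp 36) 20000 20000 = true := by decide +kernel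
theorem c183 : chkDef 24 (appB tabs t60 0xffffff) 36 (slp 36) 40000 20000 = true := by decide +kernel
theorem c184 : chkDef 24 (appB tabs t60 0xffffff) 36 (slp 36) 60000 20000 = true := by decide +kernel
theorem c185 : chkDef 24 (appB tabs t60 0xffffff) 36 (slp 36) 80000 18280 = true := by decide +kernel
theorem c186 : chkDef 24 (appB tabs t60 0xffffff) 37 (slp 37) 0 20000 = true := by decide +kernel
theorem c187 : chkDef 24 (appB tabs t60 0xffffff) 37 (slp 37) 20000 20000 = true := by decide +kernel
theorem c188 : chkDef 24 (appB tabs t60 0xffffff) 37 (slp 37) 40000 20000 = true := by decide +kernel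
theorem c189 : chkDef 24 (appB tabs t60 0xffffff) 37 (slp 37) 60000 20000 = true := by decide +kernel
theorem c190 : chkDef 24 (appB tabs t60 0xffffff) 37 (slp 37) 80000 18280 = true := by decide +kernel
theorem c191 : chkDef 24 (appB tabs t60 0xffffff) 38 (slp 38) 0 20000 = true := by decide +kernel
theorem c192 : chkDef 24 (appB tabs t60 0xffffff) 38 (slp 38) 20000 20000 = true := by decide +kernel
theorem c193 : chkDef 24 (appB tabs t60 0xffffff) 38 (slp 38) 40000 20000 = true := by decide +kernel
theorem c194 : chkDef 24 (appB tabs t60 0xffffff) 38 (slp 38) 60000 20000 = true := by decide +kernel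
theorem c195 : chkDef 24 (appB tabs t60 0xffffff) 38 (slp 38) 80000 18280 = true := by decide +kernel
theorem c196 : chkDef 24 (appB tabs t60 0xffffff) 39 (slp 39) 0 20000 = true := by decide +kernel
theorem c197 : chkDef 24 (appB tabs t60 0xffffff) 39 (slp 39) 20000 20000 = true := by decide +kernel
theorem c198 : chkDef 24 (appB tabs t60 0xffffff) 39 (slp 39) 40000 20000 = true := by decide +kernel
theorem c199 : chkDef 24 (appB tabs t60 0xffffff) 39 (slp 39) 60000 20000 = true := by decide +kernel
theorem c200 : chkDef 24 (appB tabs t60 0xffffff) 39 (slp 39) 80000 18280 = true := by decide +kernel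
theorem c201 : chkDef 24 (appB tabs t60 0xffffff) 40 (slp 40) 0 20000 = true := by decide +kernel
theorem c202 : chkDef 24 (appB tabs t60 0xffffff) 40 (slp 40) 20000 20000 = true := by decide +kernel
theorem c203 : chkDef 24 (appB tabs t60 0xffffff) 40 (slp 40) 40000 20000 = true := by decide +kernel
theorem c204 : chkDef 24 (appB tabs t60 0xffffff) 40 (slp 40) 60000 20000 = true := by decide +kernel
theorem c205 : chkDef 24 (appB tabs t60 0xffffff) 40 (slp 40) 80000 18280 = true := by decide +kernel
theorem c206 : chkDef 24 (appB tabs t60 0xffffff) 41 (slp 41) 0 20000 = true := by decide +kernel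
theorem c207 : chkDef 24 (appB tabs t60 0xffffff) 41 (slp 41) 20000 20000 = true := by decide +kernel
theorem c208 : chkDef 24 (appB tabs t60 0xffffff) 41 (slp 41) 40000 20000 = true := by decide +kernel
theorem c209 : chkDef 24 (appB tabs t60 0xffffff) 41 (slp 41) 60000 20000 = true := by decide +kernel
theorem c210 : chkDef 24 (appB tabs t60 0xffffff) 41 (slp 41) 80000 18280 = true := by decide +kernel
theorem c211 : chkDef 24 (appB tabs t60 0xffffff) 42 (slp 42) 0 20000 = true := by decide +kernel
theorem c212 : chkDef 24 (appB tabs t60 0xffffff) 42 (slp 42) 20000 20000 = true := by decide +kernel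
theorem c213 : chkDef 24 (appB tabs t60 0xffffff) 42 (slp 42) 40000 20000 = true := by decide +kernel
theorem c214 : chkDef 24 (appB tabs t60 0xffffff) 42 (slp 42) 60000 20000 = true := by decide +kernel
theorem c215 : chkDef 24 (appB tabs t60 0xffffff) 42 (slp 42) 80000 18280 = true := by decide +kernel
theorem c216 : chkDef 24 (appB tabs t60 0xffffff) 43 (slp 43) 0 20000 = true := by decide +kernel
theorem c217 : chkDef 24 (appB tabs t60 0xffffff) 43 (slp 43) 20000 20000 = true := by decide +kernel
theorem c218 : chkDef 24 (appB tabs t60 0xffffff) 43 (slp 43) 40000 20000 = true := by decide +kernel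
theorem c219 : chkDef 24 (appB tabs t60 0xffffff) 43 (slp 43) 60000 20000 = true := by decide +kernel
theorem c220 : chkDef 24 (appB tabs t60 0xffffff) 43 (slp 43) 80000 18280 = true := by decide +kernel
theorem c221 : chkDef 24 (appB tabs t60 0xffffff) 44 (slp 44) 0 20000 = true := by decide +kernel
theorem c222 : chkDef 24 (appB tabs t60 0xffffff) 44 (slp 44) 20000 20000 = true := by decide +kernel
theorem c223 : chkDef 24 (appB tabs t60 0xffffff) 44 (slp 44) 40000 20000 = true := by decide +kernel
theorem c224 : chkDef 24 (appB tabs t60 0xffffff) 44 (slp 44) 60000 20000 = true := by decide +kernel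
theorem c225 : chkDef 24 (appB tabs t60 0xffffff) 44 (slp 44) 80000 18280 = true := by decide +kernel
theorem c226 : chkDef 24 (appB tabs t60 0xffffff) 45 (slp 45) 0 20000 = true := by decide +kernel
theorem c227 : chkDef 24 (appB tabs t60 0xffffff) 45 (slp 45) 20000 20000 = true := by decide +kernel
theorem c228 : chkDef 24 (appB tabs t60 0xffffff) 45 (slp 45) 40000 20000 = true := by decide +kernel
theorem c229 : chkDef 24 (appB tabs t60 0xffffff) 45 (slp 45) 60000 20000 = true := by decide +kernel
theorem c230 : chkDef 24 (appB tabs t60 0xffffff) 45 (slp 45) 80000 18280 = true := by decide +kernel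
theorem c231 : chkDef 24 (appB tabs t60 0xffffff) 46 (slp 46) 0 20000 = true := by decide +kernel
theorem c232 : chkDef 24 (appB tabs t60 0xffffff) 46 (slp 46) 20000 20000 = true := by decide +kernel
theorem c233 : chkDef 24 (appB tabs t60 0xffffff) 46 (slp 46) 40000 20000 = true := by decide +kernel
theorem c234 : chkDef 24 (appB tabs t60 0xffffff) 46 (slp 46) 60000 20000 = true := by decide +kernel
theorem c235 : chkDef 24 (appB tabs t60 0xffffff) 46 (slp 46) 80000 18280 = true := by decide +kernel
theorem c236 : chkDef 24 (appB tabs t60 0xffffff) 47 (slp 47) 0 20000 = true := by decide +kernel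
theorem c237 : chkDef 24 (appB tabs t60 0xffffff) 47 (slp 47) 20000 20000 = true := by decide +kernel
theorem c238 : chkDef 24 (appB tabs t60 0xffffff) 47 (slp 47) 40000 20000 = true := by decide +kernel
theorem c239 : chkDef 24 (appB tabs t60 0xffffff) 47 (slp 47) 60000 20000 = true := by decide +kernel
theorem c240 : chkDef 24 (appB tabs t60 0xffffff) 47 (slp 47) 80000 18280 = true := by decide +kernel
theorem c241 : chkDef 24 (appB tabs t60 0xffffff) 48 (slp 48) 0 20000 = true := by decide +kernel
theorem c242 : chkDef 24 (appB tabs t60 0xffffff) 48 (slp 48) 20000 20000 = true := by decide +kernel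
theorem c243 : chkDef 24 (appB tabs t60 0xffffff) 48 (slp 48) 40000 20000 = true := by decide +kernel
theorem c244 : chkDef 24 (appB tabs t60 0xffffff) 48 (slp 48) 60000 20000 = true := by decide +kernel
theorem c245 : chkDef 24 (appB tabs t60 0xffffff) 48 (slp 48) 80000 18280 = true := by decide +kernel
theorem c246 : chkDef 24 (appB tabs t60 0xffffff) 49 (slp 49) 0 20000 = true := by decide +kernel
theorem c247 : chkDef 24 (appB tabs t60 0xffffff) 49 (slp 49) 20000 20000 = true := by decide +kernel
theorem c248 : chkDef 24 (appB tabs t60 0xffffff) 49 (slp 49) 40000 20000 = true := by decide +kernel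
theorem c249 : chkDef 24 (appB tabs t60 0xffffff) 49 (slp 49) 60000 20000 = true := by decide +kernel
theorem c250 : chkDef 24 (appB tabs t60 0xffffff) 49 (slp 49) 80000 18280 = true := by decide +kernel

end Cfsg.Agent.CG.Co1
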