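import Cfsg.Agent.Lib.Grp.Co1.Defs

set_option autoImplicit false
set_option maxRecDepth 100000
set_option Elab.async false
set_option linter.unusedSectionVars false

namespace Cfsg.Agent.CG.Co1

theorem c251 : chkDef 24 (appB tabs t60 0xffffff) 50 (slp 50) 0 20000 = true := by decide +kernel
theorem c252 : chkDef 24 (appB tabs t60 0xffffff) 50 (slp 50) 20000 20000 = true := by decide +kernel
theorem c253 : chkDef 24 (appB tabs t60 0xffffff) 50 (slp 50) 40000 20000 = true := by decide +kernel
theorem c254 : chkDef 24 (appB tabs t60 0xffffff) 50 (slp 50) 60000 20000 = true := by decide +kernel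
theorem c255 : chkDef 24 (appB tabs t60 0xffffff) 50 (slp 50) 80000 18280 = true := by decide +kernel
theorem c256 : chkDef 24 (appB tabs t60 0xffffff) 51 (slp 51) 0 20000 = true := by decide +kernel
theorem c257 : chkDef 24 (appB tabs t60 0xffffff) 51 (slp 51) 20000 20000 = true := by decide +kernel
theorem c258 : chkDef 24 (appB tabs t60 0xffffff) 51 (slp 51) 40000 20000 = true := by decide +kernel
theorem c259 : chkDef 24 (appB tabs t60 0xffffff) 51 (slp 51) 60000 20000 = true := by decide +kernel
theorem c260 : chkDef 24 (appB tabs t60 0xffffff) 51 (slp 51) 80000 18280 = true := by decide +kernel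
theorem c261 : chkDef 24 (appB tabs t60 0xffffff) 52 (slp 52) 0 20000 = true := by decide +kernel
theorem c262 : chkDef 24 (appB tabs t60 0xffffff) 52 (slp 52) 20000 20000 = true := by decide +kernel
theorem c263 : chkDef 24 (appB tabs t60 0xffffff) 52 (slp 52) 40000 20000 = true := by decide +kernel
theorem c264 : chkDef 24 (appB tabs t60 0xffffff) 52 (slp 52) 60000 20000 = true := by decide +kernel
theorem c265 : chkDef 24 (appB tabs t60 0xffffff) 52 (slp 52) 80000 18280 = true := by decide +kernel
theorem c266 : chkDef 24 (appB tabs t60 0xffffff) 53 (slp 53) 0 20000 = true := by decide +kernel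
theorem c267 : chkDef 24 (appB tabs t60 0xffffff) 53 (slp 53) 20000 20000 = true := by decide +kernel
theorem c268 : chkDef 24 (appB tabs t60 0xffffff) 53 (slp 53) 40000 20000 = true := by decide +kernel
theorem c269 : chkDef 24 (appB tabs t60 0xffffff) 53 (slp 53) 60000 20000 = true := by decide +kernel
theorem c270 : chkDef 24 (appB tabs t60 0xffffff) 53 (slp 53) 80000 18280 = true := by decide +kernel
theorem c271 : chkDef 24 (appB tabs t60 0xffffff) 54 (slp 54) 0 20000 = true := by decide +kernel
theorem c272 : chkDef 24 (appB tabs t60 0xffffff) 54 (slp 54) 20000 20000 = true := by decide +kernel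
theorem c273 : chkDef 24 (appB tabs t60 0xffffff) 54 (slp 54) 40000 20000 = true := by decide +kernel
theorem c274 : chkDef 24 (appB tabs t60 0xffffff) 54 (slp 54) 60000 20000 = true := by decide +kernel
theorem c275 : chkDef 24 (appB tabs t60 0xffffff) 54 (slp 54) 80000 18280 = true := by decide +kernel
theorem c276 : chkDef 24 (appB tabs t60 0xffffff) 55 (slp 55) 0 20000 = true := by decide +kernel
theorem c277 : chkDef 24 (appB tabs t60 0xffffff) 55 (slp 55) 20000 20000 = true := by decide +kernel
theorem c278 : chkDef 24 (appB tabs t60 0xffffff) 55 (slp 55) 40000 20000 = true := by decide +kernel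
theorem c279 : chkDef 24 (appB tabs t60 0xffffff) 55 (slp 55) 60000 20000 = true := by decide +kernel
theorem c280 : chkDef 24 (appB tabs t60 0xffffff) 55 (slp 55) 80000 18280 = true := by decide +kernel
theorem c281 : chkDef 24 (appB tabs t60 0xffffff) 56 (slp 56) 0 20000 = true := by decide +kernel
theorem c282 : chkDef 24 (appB tabs t60 0xffffff) 56 (slp 56) 20000 20000 = true := by decide +kernel
theorem c283 : chkDef 24 (appB tabs t60 0xffffff) 56 (slp 56) 40000 20000 = true := by decide +kernel
theorem c284 : chkDef 24 (appB tabs t60 0xffffff) 56 (slp 56) 60000 20000 = true := by decide +kernel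
theorem c285 : chkDef 24 (appB tabs t60 0xffffff) 56 (slp 56) 80000 18280 = true := by decide +kernel
theorem c286 : chkDef 24 (appB tabs t60 0xffffff) 57 (slp 57) 0 20000 = true := by decide +kernel
theorem c287 : chkDef 24 (appB tabs t60 0xffffff) 57 (slp 57) 20000 20000 = true := by decide +kernel
theorem c288 : chkDef 24 (appB tabs t60 0xffffff) 57 (slp 57) 40000 20000 = true := by decide +kernel
theorem c289 : chkDef 24 (appB tabs t60 0xffffff) 57 (slp 57) 60000 20000 = true := by decide +kernel
theorem c290 : chkDef 24 (appB tabs t60 0xffffff) 57 (slp 57) 80000 18280 = true := by decide +kernel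
theorem c291 : chkDef 24 (appB tabs t60 0xffffff) 58 (slp 58) 0 20000 = true := by decide +kernel
theorem c292 : chkDef 24 (appB tabs t60 0xffffff) 58 (slp 58) 20000 20000 = true := by decide +kernel
theorem c293 : chkDef 24 (appB tabs t60 0xffffff) 58 (slp 58) 40000 20000 = true := by decide +kernel
theorem c294 : chkDef 24 (appB tabs t60 0xffffff) 58 (slp 58) 60000 20000 = true := by decide +kernel
theorem c295 : chkDef 24 (appB tabs t60 0xffffff) 58 (slp 58) 80000 18280 = true := by decide +kernel
theorem c296 : chkDef 24 (appB tabs t60 0xffffff) 59 (slp 59) 0 20000 = true := by decide +kernel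
theorem c297 : chkDef 24 (appB tabs t60 0xffffff) 59 (slp 59) 20000 20000 = true := by decide +kernel
theorem c298 : chkDef 24 (appB tabs t60 0xffffff) 59 (slp 59) 40000 20000 = true := by decide +kernel
theorem c299 : chkDef 24 (appB tabs t60 0xffffff) 59 (slp 59) 60000 20000 = true := by decide +kernel
theorem c300 : chkDef 24 (appB tabs t60 0xffffff) 59 (slp 59) 80000 18280 = true := by decide +kernel
theorem c301 : chkDef 24 (appB tabs t60 0xffffff) 60 (false, []) 0 20000 = true := by decide +kernel
theorem c302 : chkDef 24 (appB tabs t60 0xffffff) 60 (false, []) 20000 20000 = true := by decide +kernel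
theorem c303 : chkDef 24 (appB tabs t60 0xffffff) 60 (false, []) 40000 20000 = true := by decide +kernel
theorem c304 : chkDef 24 (appB tabs t60 0xffffff) 60 (false, []) 60000 20000 = true := by decide +kernel
theorem c305 : chkDef 24 (appB tabs t60 0xffffff) 60 (false, []) 80000 18280 = true := by decide +kernel
theorem c306 : mc0.chk (appB tabs t60 0xffffff) 1 20000 = true := by decide +kernel
theorem c307 : mc0.chk (appB tabs t60 0xffffff) 20001 20000 = true := by decide +kernel
theorem c308 : mc0.chk (appB tabs t60 0xffffff) 40001 20000 = true := by decide +kernel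
theorem c309 : mc0.chk (appB tabs t60 0xffffff) 60001 20000 = true := by decide +kernel
theorem c310 : mc0.chk (appB tabs t60 0xffffff) 80001 18279 = true := by decide +kernel
theorem c311 : mc1.chk (appB tabs t60 0xffffff) 1 20000 = true := by decide +kernel
theorem c312 : mc1.chk (appB tabs t60 0xffffff) 20001 20000 = true := by decide +kernel
theorem c313 : mc1.chk (appB tabs t60 0xffffff) 40001 6574 = true := by decide +kernel
theorem c314 : mc2.chk (appB tabs t60 0xffffff) 1 20000 = true := by decide +kernel
theorem c315 : mc2.chk (appB tabs t60 0xffffff) 20001 1119 = true := by decide +kernel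
theorem c316 : mc3.chk (appB tabs t60 0xffffff) 1 2687 = true := by decide +kernel
theorem c317 : mc4.chk (appB tabs t60 0xffffff) 1 15 = true := by decide +kernel
theorem c318 : okcb 98280 24 (bases mc) = true := by decide +kernel
theorem c319 : headAll (appB tabs t60 0xffffff) mc [] = true := by decide +kernel

end Cfsg.Agent.CG.Co1
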