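import Cfsg.Agent.Lib.Grp.Co1.D0
import Cfsg.Agent.Lib.Grp.Co1.D1
import Cfsg.Agent.Lib.Grp.Co1.D2
import Cfsg.Agent.Lib.Grp.Co1.D3
import Cfsg.Agent.Lib.Grp.Co1.D4
import Cfsg.Agent.Lib.Grp.Co1.D5

set_option autoImplicit false
set_option maxRecDepth 100000
set_option Elab.async false
set_option linter.unusedSectionVars false

namespace Cfsg.Agent.CG.Co1

noncomputable def t0 : Tr ℕ := (.node (.node (.node (.node (.node (.node (.leaf t0_0) (.leaf t0_32)) (.leaf t0_16)) (.node (.leaf t0_8) (.leaf t0_24))) (.node (.node (.leaf t0_4) (.leaf t0_20)) (.node (.leaf t0_12) (.leaf t0_28)))) (.node (.node (.node (.node (.leaf t0_2) (.leaf t0_34)) (.leaf t0_18)) (.node (.leaf t0_10) (.leaf t0_26))) (.node (.node (.leaf t0_6) (.leaf t0_22)) (.node (.leaf t0_14) (.leaf t0_30))))) (.node (.node (.node (.node (.node (.leaf t0_1) (.leaf t0_33)) (.leaf t0_17)) (.node (.leaf t0_9) (.leaf t0_25))) (.node (.node (.leaf t0_5) (.leaf t0_21)) (.node (.leaf t0_13) (.leaf t0_29))))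 (.node (.node (.node (.node (.leaf t0_3) (.leaf t0_35)) (.leaf t0_19)) (.node (.leaf t0_11) (.leaf t0_27))) (.node (.node (.leaf t0_7) (.leaf t0_23)) (.node (.leaf t0_15) (.leaf t0_31))))))
noncomputable def t1 : Tr ℕ := (.node (.node (.node (.node (.node (.node (.leaf t1_0) (.leaf t1_32)) (.leaf t1_16)) (.node (.leaf t1_8) (.leaf t1_24))) (.node (.node (.leaf t1_4) (.leaf t1_20)) (.node (.leaf t1_12) (.leaf t1_28)))) (.node (.node (.node (.node (.leaf t1_2) (.leaf t1_34)) (.leaf t1_18)) (.node (.leaf t1_10) (.leaf t1_26))) (.node (.node (.leaf t1_6) (.leaf t1_22)) (.node (.leaf t1_14) (.leaf t1_30))))) (.node (.node (.node (.node (.node (.leaf t1_1) (.leaf t1_33)) (.leaf t1_17)) (.node (.leaf t1_9) (.leaf t1_25))) (.node (.node (.leaf t1_5) (.leaf t1_21)) (.node (.leaf t1_13) (.leaf t1_29)))) (.node (.node (.node (.node (.leaf t1_3) (.leaf t1_35)) (.leaf t1_19)) (.node (.leaf t1_11) (.leaf t1_27))) (.node (.node (.leaf t1_7) (.leaf t1_23)) (.node (.leaf t1_15)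 (.leaf t1_31))))))
noncomputable def t2 : Tr ℕ := (.node (.node (.node (.node (.node (.node (.leaf t2_0) (.leaf t2_32)) (.leaf t2_16)) (.node (.leaf t2_8) (.leaf t2_24))) (.node (.node (.leaf t2_4) (.leaf t2_20)) (.node (.leaf t2_12) (.leaf t2_28)))) (.node (.node (.node (.node (.leaf t2_2) (.leaf t2_34)) (.leaf t2_18)) (.node (.leaf t2_10) (.leaf t2_26))) (.node (.node (.leaf t2_6) (.leaf t2_22)) (.node (.leaf t2_14) (.leaf t2_30))))) (.node (.node (.node (.node (.node (.leaf t2_1) (.leaf t2_33)) (.leaf t2_17)) (.node (.leaf t2_9) (.leaf t2_25))) (.node (.node (.leaf t2_5) (.leaf t2_21)) (.node (.leaf t2_13) (.leaf t2_29)))) (.node (.node (.node (.node (.leaf t2_3) (.leaf t2_35)) (.leaf t2_19)) (.node (.leaf t2_11) (.leaf t2_27))) (.node (.node (.leaf t2_7) (.leaf t2_23)) (.node (.leaf t2_15) (.leaf t2_31))))))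
noncomputable def t3 : Tr ℕ := (.node (.node (.node (.node (.node (.node (.leaf t3_0) (.leaf t3_32)) (.leaf t3_16)) (.node (.leaf t3_8) (.leaf t3_24))) (.node (.node (.leaf t3_4) (.leaf t3_20)) (.node (.leaf t3_12) (.leaf t3_28)))) (.node (.node (.node (.node (.leaf t3_2) (.leaf t3_34)) (.leaf t3_18)) (.node (.leaf t3_10) (.leaf t3_26))) (.node (.node (.leaf t3_6) (.leaf t3_22)) (.node (.leaf t3_14) (.leaf t3_30))))) (.node (.node (.node (.node (.node (.leaf t3_1) (.leaf t3_33)) (.leaf t3_17)) (.node (.leaf t3_9) (.leaf t3_25))) (.node (.node (.leaf t3_5) (.leaf t3_21)) (.node (.leaf t3_13) (.leaf t3_29)))) (.node (.node (.node (.node (.leaf t3_3) (.leaf t3_35)) (.leaf t3_19)) (.node (.leaf t3_11) (.leaf t3_27))) (.node (.node (.leaf t3_7) (.leaf t3_23)) (.node (.leaf t3_15) (.leaf t3_31))))))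
noncomputable def t4 : Tr ℕ := (.node (.node (.node (.node (.node (.node (.leaf t4_0) (.leaf t4_32)) (.leaf t4_16)) (.node (.leaf t4_8) (.leaf t4_24))) (.node (.node (.leaf t4_4) (.leaf t4_20)) (.node (.leaf t4_12) (.leaf t4_28)))) (.node (.node (.node (.node (.leaf t4_2) (.leaf t4_34)) (.leaf t4_18)) (.node (.leaf t4_10) (.leaf t4_26))) (.node (.node (.leaf t4_6) (.leaf t4_22)) (.node (.leaf t4_14) (.leaf t4_30))))) (.node (.node (.node (.node (.node (.leaf t4_1) (.leaf t4_33)) (.leaf t4_17)) (.node (.leaf t4_9) (.leaf t4_25))) (.node (.node (.leaf t4_5) (.leaf t4_21)) (.node (.leaf t4_13) (.leaf t4_29)))) (.node (.node (.node (.node (.leaf t4_3) (.leaf t4_35)) (.leaf t4_19)) (.node (.leaf t4_11) (.leaf t4_27))) (.node (.node (.leaf t4_7) (.leaf t4_23)) (.node (.leaf t4_15) (.leaf t4_31))))))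
noncomputable def t5 : Tr ℕ := (.node (.node (.node (.node (.node (.node (.leaf t5_0) (.leaf t5_32)) (.leaf t5_16)) (.node (.leaf t5_8) (.leaf t5_24))) (.node (.node (.leaf t5_4) (.leaf t5_20)) (.node (.leaf t5_12) (.leaf t5_28)))) (.node (.node (.node (.node (.leaf t5_2) (.leaf t5_34)) (.leaf t5_18)) (.node (.leaf t5_10) (.leaf t5_26))) (.node (.node (.leaf t5_6) (.leaf t5_22)) (.node (.leaf t5_14) (.leaf t5_30))))) (.node (.node (.node (.node (.node (.leaf t5_1) (.leaf t5_33)) (.leaf t5_17)) (.node (.leaf t5_9) (.leaf t5_25))) (.node (.node (.leaf t5_5) (.leaf t5_21)) (.node (.leaf t5_13) (.leaf t5_29)))) (.node (.node (.node (.node (.leaf t5_3) (.leaf t5_35)) (.leaf t5_19)) (.node (.leaf t5_11) (.leaf t5_27))) (.node (.node (.leaf t5_7) (.leaf t5_23)) (.node (.leaf t5_15) (.leaf t5_31))))))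
noncomputable def t6 : Tr ℕ := (.node (.node (.node (.node (.node (.node (.leaf t6_0) (.leaf t6_32)) (.leaf t6_16)) (.node (.leaf t6_8) (.leaf t6_24))) (.node (.node (.leaf t6_4) (.leaf t6_20)) (.node (.leaf t6_12) (.leaf t6_28)))) (.node (.node (.node (.node (.leaf t6_2) (.leaf t6_34)) (.leaf t6_18)) (.node (.leaf t6_10) (.leaf t6_26))) (.node (.node (.leaf t6_6) (.leaf t6_22)) (.node (.leaf t6_14) (.leaf t6_30))))) (.node (.node (.node (.node (.node (.leaf t6_1) (.leaf t6_33)) (.leaf t6_17)) (.node (.leaf t6_9) (.leaf t6_25))) (.node (.node (.leaf t6_5) (.leaf t6_21)) (.node (.leaf t6_13) (.leaf t6_29)))) (.node (.node (.node (.node (.leaf t6_3) (.leaf t6_35)) (.leaf t6_19)) (.node (.leaf t6_11) (.leaf t6_27))) (.node (.node (.leaf t6_7) (.leaf t6_23)) (.node (.leaf t6_15) (.leaf t6_31))))))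
noncomputable def t7 : Tr ℕ := (.node (.node (.node (.node (.node (.node (.leaf t7_0) (.leaf t7_32)) (.leaf t7_16)) (.node (.leaf t7_8) (.leaf t7_24))) (.node (.node (.leaf t7_4) (.leaf t7_20)) (.node (.leaf t7_12) (.leaf t7_28)))) (.node (.node (.node (.node (.leaf t7_2) (.leaf t7_34)) (.leaf t7_18)) (.node (.leaf t7_10) (.leaf t7_26))) (.node (.node (.leaf t7_6) (.leaf t7_22)) (.node (.leaf t7_14) (.leaf t7_30))))) (.node (.node (.node (.node (.node (.leaf t7_1) (.leaf t7_33)) (.leaf t7_17)) (.node (.leaf t7_9) (.leaf t7_25))) (.node (.node (.leaf t7_5) (.leaf t7_21)) (.node (.leaf t7_13) (.leaf t7_29)))) (.node (.node (.node (.node (.leaf t7_3) (.leaf t7_35)) (.leaf t7_19)) (.node (.leaf t7_11) (.leaf t7_27))) (.node (.node (.leaf t7_7) (.leaf t7_23)) (.node (.leaf t7_15) (.leaf t7_31))))))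
noncomputable def t8 : Tr ℕ := (.node (.node (.node (.node (.node (.node (.leaf t8_0) (.leaf t8_32)) (.leaf t8_16)) (.node (.leaf t8_8) (.leaf t8_24))) (.node (.node (.leaf t8_4) (.leaf t8_20)) (.node (.leaf t8_12) (.leaf t8_28)))) (.node (.node (.node (.node (.leaf t8_2) (.leaf t8_34)) (.leaf t8_18)) (.node (.leaf t8_10) (.leaf t8_26))) (.node (.node (.leaf t8_6) (.leaf t8_22)) (.node (.leaf t8_14) (.leaf t8_30))))) (.node (.node (.node (.node (.node (.leaf t8_1) (.leaf t8_33)) (.leaf t8_17)) (.node (.leaf t8_9) (.leaf t8_25))) (.node (.node (.leaf t8_5) (.leaf t8_21)) (.node (.leaf t8_13) (.leaf t8_29)))) (.node (.node (.node (.node (.leaf t8_3) (.leaf t8_35)) (.leaf t8_19)) (.node (.leaf t8_11) (.leaf t8_27))) (.node (.node (.leaf t8_7) (.leaf t8_23)) (.node (.leaf t8_15) (.leaf t8_31))))))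
noncomputable def t9 : Tr ℕ := (.node (.node (.node (.node (.node (.node (.leaf t9_0) (.leaf t9_32)) (.leaf t9_16)) (.node (.leaf t9_8) (.leaf t9_24))) (.node (.node (.leaf t9_4) (.leaf t9_20)) (.node (.leaf t9_12) (.leaf t9_28)))) (.node (.node (.node (.node (.leaf t9_2) (.leaf t9_34)) (.leaf t9_18)) (.node (.leaf t9_10) (.leaf t9_26))) (.node (.node (.leaf t9_6) (.leaf t9_22)) (.node (.leaf t9_14) (.leaf t9_30))))) (.node (.node (.node (.node (.node (.leaf t9_1) (.leaf t9_33)) (.leaf t9_17)) (.node (.leaf t9_9) (.leaf t9_25))) (.node (.node (.leaf t9_5) (.leaf t9_21)) (.node (.leaf t9_13) (.leaf t9_29)))) (.node (.node (.node (.node (.leaf t9_3) (.leaf t9_35)) (.leaf t9_19)) (.node (.leaf t9_11) (.leaf t9_27))) (.node (.node (.leaf t9_7) (.leaf t9_23)) (.node (.leaf t9_15) (.leaf t9_31))))))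
noncomputable def t10 : Tr ℕ := (.node (.node (.node (.node (.node (.node (.leaf t10_0) (.leaf t10_32)) (.leaf t10_16)) (.node (.leaf t10_8) (.leaf t10_24))) (.node (.node (.leaf t10_4) (.leaf t10_20)) (.node (.leaf t10_12) (.leaf t10_28)))) (.node (.node (.node (.node (.leaf t10_2) (.leaf t10_34)) (.leaf t10_18)) (.node (.leaf t10_10) (.leaf t10_26))) (.node (.node (.leaf t10_6) (.leaf t10_22)) (.node (.leaf t10_14) (.leaf t10_30))))) (.node (.node (.node (.node (.node (.leaf t10_1) (.leaf t10_33)) (.leaf t10_17)) (.node (.leaf t10_9) (.leaf t10_25))) (.node (.node (.leaf t10_5) (.leaf t10_21)) (.node (.leaf t10_13) (.leaf t10_29)))) (.node (.node (.node (.node (.leaf t10_3) (.leaf t10_35)) (.leaf t10_19)) (.node (.leaf t10_11) (.leaf t10_27))) (.node (.node (.leaf t10_7) (.leaf t10_23)) (.node (.leaf t10_15) (.leaf t10_31))))))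
noncomputable def t11 : Tr ℕ := (.node (.node (.node (.node (.node (.node (.leaf t11_0) (.leaf t11_32)) (.leaf t11_16)) (.node (.leaf t11_8) (.leaf t11_24))) (.node (.node (.leaf t11_4) (.leaf t11_20)) (.node (.leaf t11_12) (.leaf t11_28)))) (.node (.node (.node (.node (.leaf t11_2) (.leaf t11_34)) (.leaf t11_18)) (.node (.leaf t11_10) (.leaf t11_26))) (.node (.node (.leaf t11_6) (.leaf t11_22)) (.node (.leaf t11_14) (.leaf t11_30))))) (.node (.node (.node (.node (.node (.leaf t11_1) (.leaf t11_33)) (.leaf t11_17)) (.node (.leaf t11_9) (.leaf t11_25))) (.node (.node (.leaf t11_5) (.leaf t11_21)) (.node (.leaf t11_13) (.leaf t11_29)))) (.node (.node (.node (.node (.leaf t11_3) (.leaf t11_35)) (.leaf t11_19)) (.node (.leaf t11_11) (.leaf t11_27))) (.node (.node (.leaf t11_7) (.leaf t11_23)) (.node (.leaf t11_15) (.leaf t11_31))))))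
noncomputable def t12 : Tr ℕ := (.node (.node (.node (.node (.node (.node (.leaf t12_0) (.leaf t12_32)) (.leaf t12_16)) (.node (.leaf t12_8) (.leaf t12_24))) (.node (.node (.leaf t12_4) (.leaf t12_20)) (.node (.leaf t12_12) (.leaf t12_28)))) (.node (.node (.node (.node (.leaf t12_2) (.leaf t12_34)) (.leaf t12_18)) (.node (.leaf t12_10) (.leaf t12_26))) (.node (.node (.leaf t12_6) (.leaf t12_22)) (.node (.leaf t12_14) (.leaf t12_30))))) (.node (.node (.node (.node (.node (.leaf t12_1) (.leaf t12_33)) (.leaf t12_17)) (.node (.leaf t12_9) (.leaf t12_25))) (.node (.node (.leaf t12_5) (.leaf t12_21)) (.node (.leaf t12_13) (.leaf t12_29)))) (.node (.node (.node (.node (.leaf t12_3) (.leaf t12_35)) (.leaf t12_19)) (.node (.leaf t12_11) (.leaf t12_27))) (.node (.node (.leaf t12_7) (.leaf t12_23)) (.node (.leaf t12_15) (.leaf t12_31))))))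
noncomputable def t13 : Tr ℕ := (.node (.node (.node (.node (.node (.node (.leaf t13_0) (.leaf t13_32)) (.leaf t13_16)) (.node (.leaf t13_8) (.leaf t13_24))) (.node (.node (.leaf t13_4) (.leaf t13_20)) (.node (.leaf t13_12) (.leaf t13_28)))) (.node (.node (.node (.node (.leaf t13_2) (.leaf t13_34)) (.leaf t13_18)) (.node (.leaf t13_10) (.leaf t13_26))) (.node (.node (.leaf t13_6) (.leaf t13_22)) (.node (.leaf t13_14) (.leaf t13_30))))) (.node (.node (.node (.node (.node (.leaf t13_1) (.leaf t13_33)) (.leaf t13_17)) (.node (.leaf t13_9) (.leaf t13_25))) (.node (.node (.leaf t13_5) (.leaf t13_21)) (.node (.leaf t13_13) (.leaf t13_29)))) (.node (.node (.node (.node (.leaf t13_3) (.leaf t13_35)) (.leaf t13_19)) (.node (.leaf t13_11) (.leaf t13_27))) (.node (.node (.leaf t13_7) (.leaf t13_23)) (.node (.leaf t13_15) (.leaf t13_31))))))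
noncomputable def t14 : Tr ℕ := (.node (.node (.node (.node (.node (.node (.leaf t14_0) (.leaf t14_32)) (.leaf t14_16)) (.node (.leaf t14_8) (.leaf t14_24))) (.node (.node (.leaf t14_4) (.leaf t14_20)) (.node (.leaf t14_12) (.leaf t14_28)))) (.node (.node (.node (.node (.leaf t14_2) (.leaf t14_34)) (.leaf t14_18)) (.node (.leaf t14_10) (.leaf t14_26))) (.node (.node (.leaf t14_6) (.leaf t14_22)) (.node (.leaf t14_14) (.leaf t14_30))))) (.node (.node (.node (.node (.node (.leaf t14_1) (.leaf t14_33)) (.leaf t14_17)) (.node (.leaf t14_9) (.leaf t14_25))) (.node (.node (.leaf t14_5) (.leaf t14_21)) (.node (.leaf t14_13) (.leaf t14_29)))) (.node (.node (.node (.node (.leaf t14_3) (.leaf t14_35)) (.leaf t14_19)) (.node (.leaf t14_11) (.leaf t14_27))) (.node (.node (.leaf t14_7) (.leaf t14_23)) (.node (.leaf t14_15) (.leaf t14_31))))))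
noncomputable def t15 : Tr ℕ := (.node (.node (.node (.node (.node (.node (.leaf t15_0) (.leaf t15_32)) (.leaf t15_16)) (.node (.leaf t15_8) (.leaf t15_24))) (.node (.node (.leaf t15_4) (.leaf t15_20)) (.node (.leaf t15_12) (.leaf t15_28)))) (.node (.node (.node (.node (.leaf t15_2) (.leaf t15_34)) (.leaf t15_18)) (.node (.leaf t15_10) (.leaf t15_26))) (.node (.node (.leaf t15_6) (.leaf t15_22)) (.node (.leaf t15_14) (.leaf t15_30))))) (.node (.node (.node (.node (.node (.leaf t15_1) (.leaf t15_33)) (.leaf t15_17)) (.node (.leaf t15_9) (.leaf t15_25))) (.node (.node (.leaf t15_5) (.leaf t15_21)) (.node (.leaf t15_13) (.leaf t15_29)))) (.node (.node (.node (.node (.leaf t15_3) (.leaf t15_35)) (.leaf t15_19)) (.node (.leaf t15_11) (.leaf t15_27))) (.node (.node (.leaf t15_7) (.leaf t15_23)) (.node (.leaf t15_15) (.leaf t15_31))))))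
noncomputable def t16 : Tr ℕ := (.node (.node (.node (.node (.node (.node (.leaf t16_0) (.leaf t16_32)) (.leaf t16_16)) (.node (.leaf t16_8) (.leaf t16_24))) (.node (.node (.leaf t16_4) (.leaf t16_20)) (.node (.leaf t16_12) (.leaf t16_28)))) (.node (.node (.node (.node (.leaf t16_2) (.leaf t16_34)) (.leaf t16_18)) (.node (.leaf t16_10) (.leaf t16_26))) (.node (.node (.leaf t16_6) (.leaf t16_22)) (.node (.leaf t16_14) (.leaf t16_30))))) (.node (.node (.node (.node (.node (.leaf t16_1) (.leaf t16_33)) (.leaf t16_17)) (.node (.leaf t16_9) (.leaf t16_25))) (.node (.node (.leaf t16_5) (.leaf t16_21)) (.node (.leaf t16_13) (.leaf t16_29)))) (.node (.node (.node (.node (.leaf t16_3) (.leaf t16_35)) (.leaf t16_19)) (.node (.leaf t16_11) (.leaf t16_27))) (.node (.node (.leaf t16_7) (.leaf t16_23)) (.node (.leaf t16_15) (.leaf t16_31))))))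
noncomputable def t17 : Tr ℕ := (.node (.node (.node (.node (.node (.node (.leaf t17_0) (.leaf t17_32)) (.leaf t17_16)) (.node (.leaf t17_8) (.leaf t17_24))) (.node (.node (.leaf t17_4) (.leaf t17_20)) (.node (.leaf t17_12) (.leaf t17_28)))) (.node (.node (.node (.node (.leaf t17_2) (.leaf t17_34)) (.leaf t17_18)) (.node (.leaf t17_10) (.leaf t17_26))) (.node (.node (.leaf t17_6) (.leaf t17_22)) (.node (.leaf t17_14) (.leaf t17_30))))) (.node (.node (.node (.node (.node (.leaf t17_1) (.leaf t17_33)) (.leaf t17_17)) (.node (.leaf t17_9) (.leaf t17_25))) (.node (.node (.leaf t17_5) (.leaf t17_21)) (.node (.leaf t17_13) (.leaf t17_29)))) (.node (.node (.node (.node (.leaf t17_3) (.leaf t17_35)) (.leaf t17_19)) (.node (.leaf t17_11) (.leaf t17_27))) (.node (.node (.leaf t17_7) (.leaf t17_23)) (.node (.leaf t17_15) (.leaf t17_31))))))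
noncomputable def t18 : Tr ℕ := (.node (.node (.node (.node (.node (.node (.leaf t18_0) (.leaf t18_32)) (.leaf t18_16)) (.node (.leaf t18_8) (.leaf t18_24))) (.node (.node (.leaf t18_4) (.leaf t18_20)) (.node (.leaf t18_12) (.leaf t18_28)))) (.node (.node (.node (.node (.leaf t18_2) (.leaf t18_34)) (.leaf t18_18)) (.node (.leaf t18_10) (.leaf t18_26))) (.node (.node (.leaf t18_6) (.leaf t18_22)) (.node (.leaf t18_14) (.leaf t18_30))))) (.node (.node (.node (.node (.node (.leaf t18_1) (.leaf t18_33)) (.leaf t18_17)) (.node (.leaf t18_9) (.leaf t18_25))) (.node (.node (.leaf t18_5) (.leaf t18_21)) (.node (.leaf t18_13) (.leaf t18_29)))) (.node (.node (.node (.node (.leaf t18_3) (.leaf t18_35)) (.leaf t18_19)) (.node (.leaf t18_11) (.leaf t18_27))) (.node (.node (.leaf t18_7) (.leaf t18_23)) (.node (.leaf t18_15) (.leaf t18_31))))))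
noncomputable def t19 : Tr ℕ := (.node (.node (.node (.node (.node (.node (.leaf t19_0) (.leaf t19_32)) (.leaf t19_16)) (.node (.leaf t19_8) (.leaf t19_24))) (.node (.node (.leaf t19_4) (.leaf t19_20)) (.node (.leaf t19_12) (.leaf t19_28)))) (.node (.node (.node (.node (.leaf t19_2) (.leaf t19_34)) (.leaf t19_18)) (.node (.leaf t19_10) (.leaf t19_26))) (.node (.node (.leaf t19_6) (.leaf t19_22)) (.node (.leaf t19_14) (.leaf t19_30))))) (.node (.node (.node (.node (.node (.leaf t19_1) (.leaf t19_33)) (.leaf t19_17)) (.node (.leaf t19_9) (.leaf t19_25))) (.node (.node (.leaf t19_5) (.leaf t19_21)) (.node (.leaf t19_13) (.leaf t19_29)))) (.node (.node (.node (.node (.leaf t19_3) (.leaf t19_35)) (.leaf t19_19)) (.node (.leaf t19_11) (.leaf t19_27))) (.node (.node (.leaf t19_7) (.leaf t19_23)) (.node (.leaf t19_15) (.leaf t19_31))))))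
noncomputable def t20 : Tr ℕ := (.node (.node (.node (.node (.node (.node (.leaf t20_0) (.leaf t20_32)) (.leaf t20_16)) (.node (.leaf t20_8) (.leaf t20_24))) (.node (.node (.leaf t20_4) (.leaf t20_20)) (.node (.leaf t20_12) (.leaf t20_28)))) (.node (.node (.node (.node (.leaf t20_2) (.leaf t20_34)) (.leaf t20_18)) (.node (.leaf t20_10) (.leaf t20_26))) (.node (.node (.leaf t20_6) (.leaf t20_22)) (.node (.leaf t20_14) (.leaf t20_30))))) (.node (.node (.node (.node (.node (.leaf t20_1) (.leaf t20_33)) (.leaf t20_17)) (.node (.leaf t20_9) (.leaf t20_25))) (.node (.node (.leaf t20_5) (.leaf t20_21)) (.node (.leaf t20_13) (.leaf t20_29)))) (.node (.node (.node (.node (.leaf t20_3) (.leaf t20_35)) (.leaf t20_19)) (.node (.leaf t20_11) (.leaf t20_27))) (.node (.node (.leaf t20_7) (.leaf t20_23)) (.node (.leaf t20_15) (.leaf t20_31))))))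
noncomputable def t21 : Tr ℕ := (.node (.node (.node (.node (.node (.node (.leaf t21_0) (.leaf t21_32)) (.leaf t21_16)) (.node (.leaf t21_8) (.leaf t21_24))) (.node (.node (.leaf t21_4) (.leaf t21_20)) (.node (.leaf t21_12) (.leaf t21_28)))) (.node (.node (.node (.node (.leaf t21_2) (.leaf t21_34)) (.leaf t21_18)) (.node (.leaf t21_10) (.leaf t21_26))) (.node (.node (.leaf t21_6) (.leaf t21_22)) (.node (.leaf t21_14) (.leaf t21_30))))) (.node (.node (.node (.node (.node (.leaf t21_1) (.leaf t21_33)) (.leaf t21_17)) (.node (.leaf t21_9) (.leaf t21_25))) (.node (.node (.leaf t21_5) (.leaf t21_21)) (.node (.leaf t21_13) (.leaf t21_29)))) (.node (.node (.node (.node (.leaf t21_3) (.leaf t21_35)) (.leaf t21_19)) (.node (.leaf t21_11) (.leaf t21_27))) (.node (.node (.leaf t21_7) (.leaf t21_23)) (.node (.leaf t21_15) (.leaf t21_31))))))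
noncomputable def t22 : Tr ℕ := (.node (.node (.node (.node (.node (.node (.leaf t22_0) (.leaf t22_32)) (.leaf t22_16)) (.node (.leaf t22_8) (.leaf t22_24))) (.node (.node (.leaf t22_4) (.leaf t22_20)) (.node (.leaf t22_12) (.leaf t22_28)))) (.node (.node (.node (.node (.leaf t22_2) (.leaf t22_34)) (.leaf t22_18)) (.node (.leaf t22_10) (.leaf t22_26))) (.node (.node (.leaf t22_6) (.leaf t22_22)) (.node (.leaf t22_14) (.leaf t22_30))))) (.node (.node (.node (.node (.node (.leaf t22_1) (.leaf t22_33)) (.leaf t22_17)) (.node (.leaf t22_9) (.leaf t22_25))) (.node (.node (.leaf t22_5) (.leaf t22_21)) (.node (.leaf t22_13) (.leaf t22_29)))) (.node (.node (.node (.node (.leaf t22_3) (.leaf t22_35)) (.leaf t22_19)) (.node (.leaf t22_11) (.leaf t22_27))) (.node (.node (.leaf t22_7) (.leaf t22_23)) (.node (.leaf t22_15) (.leaf t22_31))))))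
noncomputable def t23 : Tr ℕ := (.node (.node (.node (.node (.node (.node (.leaf t23_0) (.leaf t23_32)) (.leaf t23_16)) (.node (.leaf t23_8) (.leaf t23_24))) (.node (.node (.leaf t23_4) (.leaf t23_20)) (.node (.leaf t23_12) (.leaf t23_28)))) (.node (.node (.node (.node (.leaf t23_2) (.leaf t23_34)) (.leaf t23_18)) (.node (.leaf t23_10) (.leaf t23_26))) (.node (.node (.leaf t23_6) (.leaf t23_22)) (.node (.leaf t23_14) (.leaf t23_30))))) (.node (.node (.node (.node (.node (.leaf t23_1) (.leaf t23_33)) (.leaf t23_17)) (.node (.leaf t23_9) (.leaf t23_25))) (.node (.node (.leaf t23_5) (.leaf t23_21)) (.node (.leaf t23_13) (.leaf t23_29)))) (.node (.node (.node (.node (.leaf t23_3) (.leaf t23_35)) (.leaf t23_19)) (.node (.leaf t23_11) (.leaf t23_27))) (.node (.node (.leaf t23_7) (.leaf t23_23)) (.node (.leaf t23_15) (.leaf t23_31))))))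
noncomputable def t24 : Tr ℕ := (.node (.node (.node (.node (.node (.node (.leaf t24_0) (.leaf t24_32)) (.leaf t24_16)) (.node (.leaf t24_8) (.leaf t24_24))) (.node (.node (.leaf t24_4) (.leaf t24_20)) (.node (.leaf t24_12) (.leaf t24_28)))) (.node (.node (.node (.node (.leaf t24_2) (.leaf t24_34)) (.leaf t24_18)) (.node (.leaf t24_10) (.leaf t24_26))) (.node (.node (.leaf t24_6) (.leaf t24_22)) (.node (.leaf t24_14) (.leaf t24_30))))) (.node (.node (.node (.node (.node (.leaf t24_1) (.leaf t24_33)) (.leaf t24_17)) (.node (.leaf t24_9) (.leaf t24_25))) (.node (.node (.leaf t24_5) (.leaf t24_21)) (.node (.leaf t24_13) (.leaf t24_29)))) (.node (.node (.node (.node (.leaf t24_3) (.leaf t24_35)) (.leaf t24_19)) (.node (.leaf t24_11) (.leaf t24_27))) (.node (.node (.leaf t24_7) (.leaf t24_23)) (.node (.leaf t24_15) (.leaf t24_31))))))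
noncomputable def t25 : Tr ℕ := (.node (.node (.node (.node (.node (.node (.leaf t25_0) (.leaf t25_32)) (.leaf t25_16)) (.node (.leaf t25_8) (.leaf t25_24))) (.node (.node (.leaf t25_4) (.leaf t25_20)) (.node (.leaf t25_12) (.leaf t25_28)))) (.node (.node (.node (.node (.leaf t25_2) (.leaf t25_34)) (.leaf t25_18)) (.node (.leaf t25_10) (.leaf t25_26))) (.node (.node (.leaf t25_6) (.leaf t25_22)) (.node (.leaf t25_14) (.leaf t25_30))))) (.node (.node (.node (.node (.node (.leaf t25_1) (.leaf t25_33)) (.leaf t25_17)) (.node (.leaf t25_9) (.leaf t25_25))) (.node (.node (.leaf t25_5) (.leaf t25_21)) (.node (.leaf t25_13) (.leaf t25_29)))) (.node (.node (.node (.node (.leaf t25_3) (.leaf t25_35)) (.leaf t25_19)) (.node (.leaf t25_11) (.leaf t25_27))) (.node (.node (.leaf t25_7) (.leaf t25_23)) (.node (.leaf t25_15) (.leaf t25_31))))))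
noncomputable def t26 : Tr ℕ := (.node (.node (.node (.node (.node (.node (.leaf t26_0) (.leaf t26_32)) (.leaf t26_16)) (.node (.leaf t26_8) (.leaf t26_24))) (.node (.node (.leaf t26_4) (.leaf t26_20)) (.node (.leaf t26_12) (.leaf t26_28)))) (.node (.node (.node (.node (.leaf t26_2) (.leaf t26_34)) (.leaf t26_18)) (.node (.leaf t26_10) (.leaf t26_26))) (.node (.node (.leaf t26_6) (.leaf t26_22)) (.node (.leaf t26_14) (.leaf t26_30))))) (.node (.node (.node (.node (.node (.leaf t26_1) (.leaf t26_33)) (.leaf t26_17)) (.node (.leaf t26_9) (.leaf t26_25))) (.node (.node (.leaf t26_5) (.leaf t26_21)) (.node (.leaf t26_13) (.leaf t26_29)))) (.node (.node (.node (.node (.leaf t26_3) (.leaf t26_35)) (.leaf t26_19)) (.node (.leaf t26_11) (.leaf t26_27))) (.node (.node (.leaf t26_7) (.leaf t26_23)) (.node (.leaf t26_15) (.leaf t26_31))))))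
noncomputable def t27 : Tr ℕ := (.node (.node (.node (.node (.node (.node (.leaf t27_0) (.leaf t27_32)) (.leaf t27_16)) (.node (.leaf t27_8) (.leaf t27_24))) (.node (.node (.leaf t27_4) (.leaf t27_20)) (.node (.leaf t27_12) (.leaf t27_28)))) (.node (.node (.node (.node (.leaf t27_2) (.leaf t27_34)) (.leaf t27_18)) (.node (.leaf t27_10) (.leaf t27_26))) (.node (.node (.leaf t27_6) (.leaf t27_22)) (.node (.leaf t27_14) (.leaf t27_30))))) (.node (.node (.node (.node (.node (.leaf t27_1) (.leaf t27_33)) (.leaf t27_17)) (.node (.leaf t27_9) (.leaf t27_25))) (.node (.node (.leaf t27_5) (.leaf t27_21)) (.node (.leaf t27_13) (.leaf t27_29)))) (.node (.node (.node (.node (.leaf t27_3) (.leaf t27_35)) (.leaf t27_19)) (.node (.leaf t27_11) (.leaf t27_27))) (.node (.node (.leaf t27_7) (.leaf t27_23)) (.node (.leaf t27_15) (.leaf t27_31))))))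
noncomputable def t28 : Tr ℕ := (.node (.node (.node (.node (.node (.node (.leaf t28_0) (.leaf t28_32)) (.leaf t28_16)) (.node (.leaf t28_8) (.leaf t28_24))) (.node (.node (.leaf t28_4) (.leaf t28_20)) (.node (.leaf t28_12) (.leaf t28_28)))) (.node (.node (.node (.node (.leaf t28_2) (.leaf t28_34)) (.leaf t28_18)) (.node (.leaf t28_10) (.leaf t28_26))) (.node (.node (.leaf t28_6) (.leaf t28_22)) (.node (.leaf t28_14) (.leaf t28_30))))) (.node (.node (.node (.node (.node (.leaf t28_1) (.leaf t28_33)) (.leaf t28_17)) (.node (.leaf t28_9) (.leaf t28_25))) (.node (.node (.leaf t28_5) (.leaf t28_21)) (.node (.leaf t28_13) (.leaf t28_29)))) (.node (.node (.node (.node (.leaf t28_3) (.leaf t28_35)) (.leaf t28_19)) (.node (.leaf t28_11) (.leaf t28_27))) (.node (.node (.leaf t28_7) (.leaf t28_23)) (.node (.leaf t28_15) (.leaf t28_31))))))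
noncomputable def t29 : Tr ℕ := (.node (.node (.node (.node (.node (.node (.leaf t29_0) (.leaf t29_32)) (.leaf t29_16)) (.node (.leaf t29_8) (.leaf t29_24))) (.node (.node (.leaf t29_4) (.leaf t29_20)) (.node (.leaf t29_12) (.leaf t29_28)))) (.node (.node (.node (.node (.leaf t29_2) (.leaf t29_34)) (.leaf t29_18)) (.node (.leaf t29_10) (.leaf t29_26))) (.node (.node (.leaf t29_6) (.leaf t29_22)) (.node (.leaf t29_14) (.leaf t29_30))))) (.node (.node (.node (.node (.node (.leaf t29_1) (.leaf t29_33)) (.leaf t29_17)) (.node (.leaf t29_9) (.leaf t29_25))) (.node (.node (.leaf t29_5) (.leaf t29_21)) (.node (.leaf t29_13) (.leaf t29_29)))) (.node (.node (.node (.node (.leaf t29_3) (.leaf t29_35)) (.leaf t29_19)) (.node (.leaf t29_11) (.leaf t29_27))) (.node (.node (.leaf t29_7) (.leaf t29_23)) (.node (.leaf t29_15) (.leaf t29_31))))))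
noncomputable def t30 : Tr ℕ := (.node (.node (.node (.node (.node (.node (.leaf t30_0) (.leaf t30_32)) (.leaf t30_16)) (.node (.leaf t30_8) (.leaf t30_24))) (.node (.node (.leaf t30_4) (.leaf t30_20)) (.node (.leaf t30_12) (.leaf t30_28)))) (.node (.node (.node (.node (.leaf t30_2) (.leaf t30_34)) (.leaf t30_18)) (.node (.leaf t30_10) (.leaf t30_26))) (.node (.node (.leaf t30_6) (.leaf t30_22)) (.node (.leaf t30_14) (.leaf t30_30))))) (.node (.node (.node (.node (.node (.leaf t30_1) (.leaf t30_33)) (.leaf t30_17)) (.node (.leaf t30_9) (.leaf t30_25))) (.node (.node (.leaf t30_5) (.leaf t30_21)) (.node (.leaf t30_13) (.leaf t30_29)))) (.node (.node (.node (.node (.leaf t30_3) (.leaf t30_35)) (.leaf t30_19)) (.node (.leaf t30_11) (.leaf t30_27))) (.node (.node (.leaf t30_7) (.leaf t30_23)) (.node (.leaf t30_15) (.leaf t30_31))))))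
noncomputable def t31 : Tr ℕ := (.node (.node (.node (.node (.node (.node (.leaf t31_0) (.leaf t31_32)) (.leaf t31_16)) (.node (.leaf t31_8) (.leaf t31_24))) (.node (.node (.leaf t31_4) (.leaf t31_20)) (.node (.leaf t31_12) (.leaf t31_28)))) (.node (.node (.node (.node (.leaf t31_2) (.leaf t31_34)) (.leaf t31_18)) (.node (.leaf t31_10) (.leaf t31_26))) (.node (.node (.leaf t31_6) (.leaf t31_22)) (.node (.leaf t31_14) (.leaf t31_30))))) (.node (.node (.node (.node (.node (.leaf t31_1) (.leaf t31_33)) (.leaf t31_17)) (.node (.leaf t31_9) (.leaf t31_25))) (.node (.node (.leaf t31_5) (.leaf t31_21)) (.node (.leaf t31_13) (.leaf t31_29)))) (.node (.node (.node (.node (.leaf t31_3) (.leaf t31_35)) (.leaf t31_19)) (.node (.leaf t31_11) (.leaf t31_27))) (.node (.node (.leaf t31_7) (.leaf t31_23)) (.node (.leaf t31_15) (.leaf t31_31))))))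
noncomputable def t32 : Tr ℕ := (.node (.node (.node (.node (.node (.node (.leaf t32_0) (.leaf t32_32)) (.leaf t32_16)) (.node (.leaf t32_8) (.leaf t32_24))) (.node (.node (.leaf t32_4) (.leaf t32_20)) (.node (.leaf t32_12) (.leaf t32_28)))) (.node (.node (.node (.node (.leaf t32_2) (.leaf t32_34)) (.leaf t32_18)) (.node (.leaf t32_10) (.leaf t32_26))) (.node (.node (.leaf t32_6) (.leaf t32_22)) (.node (.leaf t32_14) (.leaf t32_30))))) (.node (.node (.node (.node (.node (.leaf t32_1) (.leaf t32_33)) (.leaf t32_17)) (.node (.leaf t32_9) (.leaf t32_25))) (.node (.node (.leaf t32_5) (.leaf t32_21)) (.node (.leaf t32_13) (.leaf t32_29)))) (.node (.node (.node (.node (.leaf t32_3) (.leaf t32_35)) (.leaf t32_19)) (.node (.leaf t32_11) (.leaf t32_27))) (.node (.node (.leaf t32_7) (.leaf t32_23)) (.node (.leaf t32_15) (.leaf t32_31))))))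
noncomputable def t33 : Tr ℕ := (.node (.node (.node (.node (.node (.node (.leaf t33_0) (.leaf t33_32)) (.leaf t33_16)) (.node (.leaf t33_8) (.leaf t33_24))) (.node (.node (.leaf t33_4) (.leaf t33_20)) (.node (.leaf t33_12) (.leaf t33_28)))) (.node (.node (.node (.node (.leaf t33_2) (.leaf t33_34)) (.leaf t33_18)) (.node (.leaf t33_10) (.leaf t33_26))) (.node (.node (.leaf t33_6) (.leaf t33_22)) (.node (.leaf t33_14) (.leaf t33_30))))) (.node (.node (.node (.node (.node (.leaf t33_1) (.leaf t33_33)) (.leaf t33_17)) (.node (.leaf t33_9) (.leaf t33_25))) (.node (.node (.leaf t33_5) (.leaf t33_21)) (.node (.leaf t33_13) (.leaf t33_29)))) (.node (.node (.node (.node (.leaf t33_3) (.leaf t33_35)) (.leaf t33_19)) (.node (.leaf t33_11) (.leaf t33_27))) (.node (.node (.leaf t33_7) (.leaf t33_23)) (.node (.leaf t33_15) (.leaf t33_31))))))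
noncomputable def t34 : Tr ℕ := (.node (.node (.node (.node (.node (.node (.leaf t34_0) (.leaf t34_32)) (.leaf t34_16)) (.node (.leaf t34_8) (.leaf t34_24))) (.node (.node (.leaf t34_4) (.leaf t34_20)) (.node (.leaf t34_12) (.leaf t34_28)))) (.node (.node (.node (.node (.leaf t34_2) (.leaf t34_34)) (.leaf t34_18)) (.node (.leaf t34_10) (.leaf t34_26))) (.node (.node (.leaf t34_6) (.leaf t34_22)) (.node (.leaf t34_14) (.leaf t34_30))))) (.node (.node (.node (.node (.node (.leaf t34_1) (.leaf t34_33)) (.leaf t34_17)) (.node (.leaf t34_9) (.leaf t34_25))) (.node (.node (.leaf t34_5) (.leaf t34_21)) (.node (.leaf t34_13) (.leaf t34_29)))) (.node (.node (.node (.node (.leaf t34_3) (.leaf t34_35)) (.leaf t34_19)) (.node (.leaf t34_11) (.leaf t34_27))) (.node (.node (.leaf t34_7) (.leaf t34_23)) (.node (.leaf t34_15) (.leaf t34_31))))))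
noncomputable def t35 : Tr ℕ := (.node (.node (.node (.node (.node (.node (.leaf t35_0) (.leaf t35_32)) (.leaf t35_16)) (.node (.leaf t35_8) (.leaf t35_24))) (.node (.node (.leaf t35_4) (.leaf t35_20)) (.node (.leaf t35_12) (.leaf t35_28)))) (.node (.node (.node (.node (.leaf t35_2) (.leaf t35_34)) (.leaf t35_18)) (.node (.leaf t35_10) (.leaf t35_26))) (.node (.node (.leaf t35_6) (.leaf t35_22)) (.node (.leaf t35_14) (.leaf t35_30))))) (.node (.node (.node (.node (.node (.leaf t35_1) (.leaf t35_33)) (.leaf t35_17)) (.node (.leaf t35_9) (.leaf t35_25))) (.node (.node (.leaf t35_5) (.leaf t35_21)) (.node (.leaf t35_13) (.leaf t35_29)))) (.node (.node (.node (.node (.leaf t35_3) (.leaf t35_35)) (.leaf t35_19)) (.node (.leaf t35_11) (.leaf t35_27))) (.node (.node (.leaf t35_7) (.leaf t35_23)) (.node (.leaf t35_15) (.leaf t35_31))))))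
noncomputable def t36 : Tr ℕ := (.node (.node (.node (.node (.node (.node (.leaf t36_0) (.leaf t36_32)) (.leaf t36_16)) (.node (.leaf t36_8) (.leaf t36_24))) (.node (.node (.leaf t36_4) (.leaf t36_20)) (.node (.leaf t36_12) (.leaf t36_28)))) (.node (.node (.node (.node (.leaf t36_2) (.leaf t36_34)) (.leaf t36_18)) (.node (.leaf t36_10) (.leaf t36_26))) (.node (.node (.leaf t36_6) (.leaf t36_22)) (.node (.leaf t36_14) (.leaf t36_30))))) (.node (.node (.node (.node (.node (.leaf t36_1) (.leaf t36_33)) (.leaf t36_17)) (.node (.leaf t36_9) (.leaf t36_25))) (.node (.node (.leaf t36_5) (.leaf t36_21)) (.node (.leaf t36_13) (.leaf t36_29)))) (.node (.node (.node (.node (.leaf t36_3) (.leaf t36_35)) (.leaf t36_19)) (.node (.leaf t36_11) (.leaf t36_27))) (.node (.node (.leaf t36_7) (.leaf t36_23)) (.node (.leaf t36_15) (.leaf t36_31))))))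
noncomputable def t37 : Tr ℕ := (.node (.node (.node (.node (.node (.node (.leaf t37_0) (.leaf t37_32)) (.leaf t37_16)) (.node (.leaf t37_8) (.leaf t37_24))) (.node (.node (.leaf t37_4) (.leaf t37_20)) (.node (.leaf t37_12) (.leaf t37_28)))) (.node (.node (.node (.node (.leaf t37_2) (.leaf t37_34)) (.leaf t37_18)) (.node (.leaf t37_10) (.leaf t37_26))) (.node (.node (.leaf t37_6) (.leaf t37_22)) (.node (.leaf t37_14) (.leaf t37_30))))) (.node (.node (.node (.node (.node (.leaf t37_1) (.leaf t37_33)) (.leaf t37_17)) (.node (.leaf t37_9) (.leaf t37_25))) (.node (.node (.leaf t37_5) (.leaf t37_21)) (.node (.leaf t37_13) (.leaf t37_29)))) (.node (.node (.node (.node (.leaf t37_3) (.leaf t37_35)) (.leaf t37_19)) (.node (.leaf t37_11) (.leaf t37_27))) (.node (.node (.leaf t37_7) (.leaf t37_23)) (.node (.leaf t37_15) (.leaf t37_31))))))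
noncomputable def t38 : Tr ℕ := (.node (.node (.node (.node (.node (.node (.leaf t38_0) (.leaf t38_32)) (.leaf t38_16)) (.node (.leaf t38_8) (.leaf t38_24))) (.node (.node (.leaf t38_4) (.leaf t38_20)) (.node (.leaf t38_12) (.leaf t38_28)))) (.node (.node (.node (.node (.leaf t38_2) (.leaf t38_34)) (.leaf t38_18)) (.node (.leaf t38_10) (.leaf t38_26))) (.node (.node (.leaf t38_6) (.leaf t38_22)) (.node (.leaf t38_14) (.leaf t38_30))))) (.node (.node (.node (.node (.node (.leaf t38_1) (.leaf t38_33)) (.leaf t38_17)) (.node (.leaf t38_9) (.leaf t38_25))) (.node (.node (.leaf t38_5) (.leaf t38_21)) (.node (.leaf t38_13) (.leaf t38_29)))) (.node (.node (.node (.node (.leaf t38_3) (.leaf t38_35)) (.leaf t38_19)) (.node (.leaf t38_11) (.leaf t38_27))) (.node (.node (.leaf t38_7) (.leaf t38_23)) (.node (.leaf t38_15) (.leaf t38_31))))))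
noncomputable def t39 : Tr ℕ := (.node (.node (.node (.node (.node (.node (.leaf t39_0) (.leaf t39_32)) (.leaf t39_16)) (.node (.leaf t39_8) (.leaf t39_24))) (.node (.node (.leaf t39_4) (.leaf t39_20)) (.node (.leaf t39_12) (.leaf t39_28)))) (.node (.node (.node (.node (.leaf t39_2) (.leaf t39_34)) (.leaf t39_18)) (.node (.leaf t39_10) (.leaf t39_26))) (.node (.node (.leaf t39_6) (.leaf t39_22)) (.node (.leaf t39_14) (.leaf t39_30))))) (.node (.node (.node (.node (.node (.leaf t39_1) (.leaf t39_33)) (.leaf t39_17)) (.node (.leaf t39_9) (.leaf t39_25))) (.node (.node (.leaf t39_5) (.leaf t39_21)) (.node (.leaf t39_13) (.leaf t39_29)))) (.node (.node (.node (.node (.leaf t39_3) (.leaf t39_35)) (.leaf t39_19)) (.node (.leaf t39_11) (.leaf t39_27))) (.node (.node (.leaf t39_7) (.leaf t39_23)) (.node (.leaf t39_15) (.leaf t39_31))))))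
noncomputable def t40 : Tr ℕ := (.node (.node (.node (.node (.node (.node (.leaf t40_0) (.leaf t40_32)) (.leaf t40_16)) (.node (.leaf t40_8) (.leaf t40_24))) (.node (.node (.leaf t40_4) (.leaf t40_20)) (.node (.leaf t40_12) (.leaf t40_28)))) (.node (.node (.node (.node (.leaf t40_2) (.leaf t40_34)) (.leaf t40_18)) (.node (.leaf t40_10) (.leaf t40_26))) (.node (.node (.leaf t40_6) (.leaf t40_22)) (.node (.leaf t40_14) (.leaf t40_30))))) (.node (.node (.node (.node (.node (.leaf t40_1) (.leaf t40_33)) (.leaf t40_17)) (.node (.leaf t40_9) (.leaf t40_25))) (.node (.node (.leaf t40_5) (.leaf t40_21)) (.node (.leaf t40_13) (.leaf t40_29)))) (.node (.node (.node (.node (.leaf t40_3) (.leaf t40_35)) (.leaf t40_19)) (.node (.leaf t40_11) (.leaf t40_27))) (.node (.node (.leaf t40_7) (.leaf t40_23)) (.node (.leaf t40_15) (.leaf t40_31))))))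
noncomputable def t41 : Tr ℕ := (.node (.node (.node (.node (.node (.node (.leaf t41_0) (.leaf t41_32)) (.leaf t41_16)) (.node (.leaf t41_8) (.leaf t41_24))) (.node (.node (.leaf t41_4) (.leaf t41_20)) (.node (.leaf t41_12) (.leaf t41_28)))) (.node (.node (.node (.node (.leaf t41_2) (.leaf t41_34)) (.leaf t41_18)) (.node (.leaf t41_10) (.leaf t41_26))) (.node (.node (.leaf t41_6) (.leaf t41_22)) (.node (.leaf t41_14) (.leaf t41_30))))) (.node (.node (.node (.node (.node (.leaf t41_1) (.leaf t41_33)) (.leaf t41_17)) (.node (.leaf t41_9) (.leaf t41_25))) (.node (.node (.leaf t41_5) (.leaf t41_21)) (.node (.leaf t41_13) (.leaf t41_29)))) (.node (.node (.node (.node (.leaf t41_3) (.leaf t41_35)) (.leaf t41_19)) (.node (.leaf t41_11) (.leaf t41_27))) (.node (.node (.leaf t41_7) (.leaf t41_23)) (.node (.leaf t41_15) (.leaf t41_31))))))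
noncomputable def t42 : Tr ℕ := (.node (.node (.node (.node (.node (.node (.leaf t42_0) (.leaf t42_32)) (.leaf t42_16)) (.node (.leaf t42_8) (.leaf t42_24))) (.node (.node (.leaf t42_4) (.leaf t42_20)) (.node (.leaf t42_12) (.leaf t42_28)))) (.node (.node (.node (.node (.leaf t42_2) (.leaf t42_34)) (.leaf t42_18)) (.node (.leaf t42_10) (.leaf t42_26))) (.node (.node (.leaf t42_6) (.leaf t42_22)) (.node (.leaf t42_14) (.leaf t42_30))))) (.node (.node (.node (.node (.node (.leaf t42_1) (.leaf t42_33)) (.leaf t42_17)) (.node (.leaf t42_9) (.leaf t42_25))) (.node (.node (.leaf t42_5) (.leaf t42_21)) (.node (.leaf t42_13) (.leaf t42_29)))) (.node (.node (.node (.node (.leaf t42_3) (.leaf t42_35)) (.leaf t42_19)) (.node (.leaf t42_11) (.leaf t42_27))) (.node (.node (.leaf t42_7) (.leaf t42_23)) (.node (.leaf t42_15) (.leaf t42_31))))))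
noncomputable def t43 : Tr ℕ := (.node (.node (.node (.node (.node (.node (.leaf t43_0) (.leaf t43_32)) (.leaf t43_16)) (.node (.leaf t43_8) (.leaf t43_24))) (.node (.node (.leaf t43_4) (.leaf t43_20)) (.node (.leaf t43_12) (.leaf t43_28)))) (.node (.node (.node (.node (.leaf t43_2) (.leaf t43_34)) (.leaf t43_18)) (.node (.leaf t43_10) (.leaf t43_26))) (.node (.node (.leaf t43_6) (.leaf t43_22)) (.node (.leaf t43_14) (.leaf t43_30))))) (.node (.node (.node (.node (.node (.leaf t43_1) (.leaf t43_33)) (.leaf t43_17)) (.node (.leaf t43_9) (.leaf t43_25))) (.node (.node (.leaf t43_5) (.leaf t43_21)) (.node (.leaf t43_13) (.leaf t43_29)))) (.node (.node (.node (.node (.leaf t43_3) (.leaf t43_35)) (.leaf t43_19)) (.node (.leaf t43_11) (.leaf t43_27))) (.node (.node (.leaf t43_7) (.leaf t43_23)) (.node (.leaf t43_15) (.leaf t43_31))))))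
noncomputable def t44 : Tr ℕ := (.node (.node (.node (.node (.node (.node (.leaf t44_0) (.leaf t44_32)) (.leaf t44_16)) (.node (.leaf t44_8) (.leaf t44_24))) (.node (.node (.leaf t44_4) (.leaf t44_20)) (.node (.leaf t44_12) (.leaf t44_28)))) (.node (.node (.node (.node (.leaf t44_2) (.leaf t44_34)) (.leaf t44_18)) (.node (.leaf t44_10) (.leaf t44_26))) (.node (.node (.leaf t44_6) (.leaf t44_22)) (.node (.leaf t44_14) (.leaf t44_30))))) (.node (.node (.node (.node (.node (.leaf t44_1) (.leaf t44_33)) (.leaf t44_17)) (.node (.leaf t44_9) (.leaf t44_25))) (.node (.node (.leaf t44_5) (.leaf t44_21)) (.node (.leaf t44_13) (.leaf t44_29)))) (.node (.node (.node (.node (.leaf t44_3) (.leaf t44_35)) (.leaf t44_19)) (.node (.leaf t44_11) (.leaf t44_27))) (.node (.node (.leaf t44_7) (.leaf t44_23)) (.node (.leaf t44_15) (.leaf t44_31))))))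
noncomputable def t45 : Tr ℕ := (.node (.node (.node (.node (.node (.node (.leaf t45_0) (.leaf t45_32)) (.leaf t45_16)) (.node (.leaf t45_8) (.leaf t45_24))) (.node (.node (.leaf t45_4) (.leaf t45_20)) (.node (.leaf t45_12) (.leaf t45_28)))) (.node (.node (.node (.node (.leaf t45_2) (.leaf t45_34)) (.leaf t45_18)) (.node (.leaf t45_10) (.leaf t45_26))) (.node (.node (.leaf t45_6) (.leaf t45_22)) (.node (.leaf t45_14) (.leaf t45_30))))) (.node (.node (.node (.node (.node (.leaf t45_1) (.leaf t45_33)) (.leaf t45_17)) (.node (.leaf t45_9) (.leaf t45_25))) (.node (.node (.leaf t45_5) (.leaf t45_21)) (.node (.leaf t45_13) (.leaf t45_29)))) (.node (.node (.node (.node (.leaf t45_3) (.leaf t45_35)) (.leaf t45_19)) (.node (.leaf t45_11) (.leaf t45_27))) (.node (.node (.leaf t45_7) (.leaf t45_23)) (.node (.leaf t45_15) (.leaf t45_31))))))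
noncomputable def t46 : Tr ℕ := (.node (.node (.node (.node (.node (.node (.leaf t46_0) (.leaf t46_32)) (.leaf t46_16)) (.node (.leaf t46_8) (.leaf t46_24))) (.node (.node (.leaf t46_4) (.leaf t46_20)) (.node (.leaf t46_12) (.leaf t46_28)))) (.node (.node (.node (.node (.leaf t46_2) (.leaf t46_34)) (.leaf t46_18)) (.node (.leaf t46_10) (.leaf t46_26))) (.node (.node (.leaf t46_6) (.leaf t46_22)) (.node (.leaf t46_14) (.leaf t46_30))))) (.node (.node (.node (.node (.node (.leaf t46_1) (.leaf t46_33)) (.leaf t46_17)) (.node (.leaf t46_9) (.leaf t46_25))) (.node (.node (.leaf t46_5) (.leaf t46_21)) (.node (.leaf t46_13) (.leaf t46_29)))) (.node (.node (.node (.node (.leaf t46_3) (.leaf t46_35)) (.leaf t46_19)) (.node (.leaf t46_11) (.leaf t46_27))) (.node (.node (.leaf t46_7) (.leaf t46_23)) (.node (.leaf t46_15) (.leaf t46_31))))))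
noncomputable def t47 : Tr ℕ := (.node (.node (.node (.node (.node (.node (.leaf t47_0) (.leaf t47_32)) (.leaf t47_16)) (.node (.leaf t47_8) (.leaf t47_24))) (.node (.node (.leaf t47_4) (.leaf t47_20)) (.node (.leaf t47_12) (.leaf t47_28)))) (.node (.node (.node (.node (.leaf t47_2) (.leaf t47_34)) (.leaf t47_18)) (.node (.leaf t47_10) (.leaf t47_26))) (.node (.node (.leaf t47_6) (.leaf t47_22)) (.node (.leaf t47_14) (.leaf t47_30))))) (.node (.node (.node (.node (.node (.leaf t47_1) (.leaf t47_33)) (.leaf t47_17)) (.node (.leaf t47_9) (.leaf t47_25))) (.node (.node (.leaf t47_5) (.leaf t47_21)) (.node (.leaf t47_13) (.leaf t47_29)))) (.node (.node (.node (.node (.leaf t47_3) (.leaf t47_35)) (.leaf t47_19)) (.node (.leaf t47_11) (.leaf t47_27))) (.node (.node (.leaf t47_7) (.leaf t47_23)) (.node (.leaf t47_15) (.leaf t47_31))))))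
noncomputable def t48 : Tr ℕ := (.node (.node (.node (.node (.node (.node (.leaf t48_0) (.leaf t48_32)) (.leaf t48_16)) (.node (.leaf t48_8) (.leaf t48_24))) (.node (.node (.leaf t48_4) (.leaf t48_20)) (.node (.leaf t48_12) (.leaf t48_28)))) (.node (.node (.node (.node (.leaf t48_2) (.leaf t48_34)) (.leaf t48_18)) (.node (.leaf t48_10) (.leaf t48_26))) (.node (.node (.leaf t48_6) (.leaf t48_22)) (.node (.leaf t48_14) (.leaf t48_30))))) (.node (.node (.node (.node (.node (.leaf t48_1) (.leaf t48_33)) (.leaf t48_17)) (.node (.leaf t48_9) (.leaf t48_25))) (.node (.node (.leaf t48_5) (.leaf t48_21)) (.node (.leaf t48_13) (.leaf t48_29)))) (.node (.node (.node (.node (.leaf t48_3) (.leaf t48_35)) (.leaf t48_19)) (.node (.leaf t48_11) (.leaf t48_27))) (.node (.node (.leaf t48_7) (.leaf t48_23)) (.node (.leaf t48_15) (.leaf t48_31))))))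
noncomputable def t49 : Tr ℕ := (.node (.node (.node (.node (.node (.node (.leaf t49_0) (.leaf t49_32)) (.leaf t49_16)) (.node (.leaf t49_8) (.leaf t49_24))) (.node (.node (.leaf t49_4) (.leaf t49_20)) (.node (.leaf t49_12) (.leaf t49_28)))) (.node (.node (.node (.node (.leaf t49_2) (.leaf t49_34)) (.leaf t49_18)) (.node (.leaf t49_10) (.leaf t49_26))) (.node (.node (.leaf t49_6) (.leaf t49_22)) (.node (.leaf t49_14) (.leaf t49_30))))) (.node (.node (.node (.node (.node (.leaf t49_1) (.leaf t49_33)) (.leaf t49_17)) (.node (.leaf t49_9) (.leaf t49_25))) (.node (.node (.leaf t49_5) (.leaf t49_21)) (.node (.leaf t49_13) (.leaf t49_29)))) (.node (.node (.node (.node (.leaf t49_3) (.leaf t49_35)) (.leaf t49_19)) (.node (.leaf t49_11) (.leaf t49_27))) (.node (.node (.leaf t49_7) (.leaf t49_23)) (.node (.leaf t49_15) (.leaf t49_31))))))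
noncomputable def t50 : Tr ℕ := (.node (.node (.node (.node (.node (.node (.leaf t50_0) (.leaf t50_32)) (.leaf t50_16)) (.node (.leaf t50_8) (.leaf t50_24))) (.node (.node (.leaf t50_4) (.leaf t50_20)) (.node (.leaf t50_12) (.leaf t50_28)))) (.node (.node (.node (.node (.leaf t50_2) (.leaf t50_34)) (.leaf t50_18)) (.node (.leaf t50_10) (.leaf t50_26))) (.node (.node (.leaf t50_6) (.leaf t50_22)) (.node (.leaf t50_14) (.leaf t50_30))))) (.node (.node (.node (.node (.node (.leaf t50_1) (.leaf t50_33)) (.leaf t50_17)) (.node (.leaf t50_9) (.leaf t50_25))) (.node (.node (.leaf t50_5) (.leaf t50_21)) (.node (.leaf t50_13) (.leaf t50_29)))) (.node (.node (.node (.node (.leaf t50_3) (.leaf t50_35)) (.leaf t50_19)) (.node (.leaf t50_11) (.leaf t50_27))) (.node (.node (.leaf t50_7) (.leaf t50_23)) (.node (.leaf t50_15) (.leaf t50_31))))))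
noncomputable def t51 : Tr ℕ := (.node (.node (.node (.node (.node (.node (.leaf t51_0) (.leaf t51_32)) (.leaf t51_16)) (.node (.leaf t51_8) (.leaf t51_24))) (.node (.node (.leaf t51_4) (.leaf t51_20)) (.node (.leaf t51_12) (.leaf t51_28)))) (.node (.node (.node (.node (.leaf t51_2) (.leaf t51_34)) (.leaf t51_18)) (.node (.leaf t51_10) (.leaf t51_26))) (.node (.node (.leaf t51_6) (.leaf t51_22)) (.node (.leaf t51_14) (.leaf t51_30))))) (.node (.node (.node (.node (.node (.leaf t51_1) (.leaf t51_33)) (.leaf t51_17)) (.node (.leaf t51_9) (.leaf t51_25))) (.node (.node (.leaf t51_5) (.leaf t51_21)) (.node (.leaf t51_13) (.leaf t51_29)))) (.node (.node (.node (.node (.leaf t51_3) (.leaf t51_35)) (.leaf t51_19)) (.node (.leaf t51_11) (.leaf t51_27))) (.node (.node (.leaf t51_7) (.leaf t51_23)) (.node (.leaf t51_15) (.leaf t51_31))))))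
noncomputable def t52 : Tr ℕ := (.node (.node (.node (.node (.node (.node (.leaf t52_0) (.leaf t52_32)) (.leaf t52_16)) (.node (.leaf t52_8) (.leaf t52_24))) (.node (.node (.leaf t52_4) (.leaf t52_20)) (.node (.leaf t52_12) (.leaf t52_28)))) (.node (.node (.node (.node (.leaf t52_2) (.leaf t52_34)) (.leaf t52_18)) (.node (.leaf t52_10) (.leaf t52_26))) (.node (.node (.leaf t52_6) (.leaf t52_22)) (.node (.leaf t52_14) (.leaf t52_30))))) (.node (.node (.node (.node (.node (.leaf t52_1) (.leaf t52_33)) (.leaf t52_17)) (.node (.leaf t52_9) (.leaf t52_25))) (.node (.node (.leaf t52_5) (.leaf t52_21)) (.node (.leaf t52_13) (.leaf t52_29)))) (.node (.node (.node (.node (.leaf t52_3) (.leaf t52_35)) (.leaf t52_19)) (.node (.leaf t52_11) (.leaf t52_27))) (.node (.node (.leaf t52_7) (.leaf t52_23)) (.node (.leaf t52_15) (.leaf t52_31))))))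
noncomputable def t53 : Tr ℕ := (.node (.node (.node (.node (.node (.node (.leaf t53_0) (.leaf t53_32)) (.leaf t53_16)) (.node (.leaf t53_8) (.leaf t53_24))) (.node (.node (.leaf t53_4) (.leaf t53_20)) (.node (.leaf t53_12) (.leaf t53_28)))) (.node (.node (.node (.node (.leaf t53_2) (.leaf t53_34)) (.leaf t53_18)) (.node (.leaf t53_10) (.leaf t53_26))) (.node (.node (.leaf t53_6) (.leaf t53_22)) (.node (.leaf t53_14) (.leaf t53_30))))) (.node (.node (.node (.node (.node (.leaf t53_1) (.leaf t53_33)) (.leaf t53_17)) (.node (.leaf t53_9) (.leaf t53_25))) (.node (.node (.leaf t53_5) (.leaf t53_21)) (.node (.leaf t53_13) (.leaf t53_29)))) (.node (.node (.node (.node (.leaf t53_3) (.leaf t53_35)) (.leaf t53_19)) (.node (.leaf t53_11) (.leaf t53_27))) (.node (.node (.leaf t53_7) (.leaf t53_23)) (.node (.leaf t53_15) (.leaf t53_31))))))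
noncomputable def t54 : Tr ℕ := (.node (.node (.node (.node (.node (.node (.leaf t54_0) (.leaf t54_32)) (.leaf t54_16)) (.node (.leaf t54_8) (.leaf t54_24))) (.node (.node (.leaf t54_4) (.leaf t54_20)) (.node (.leaf t54_12) (.leaf t54_28)))) (.node (.node (.node (.node (.leaf t54_2) (.leaf t54_34)) (.leaf t54_18)) (.node (.leaf t54_10) (.leaf t54_26))) (.node (.node (.leaf t54_6) (.leaf t54_22)) (.node (.leaf t54_14) (.leaf t54_30))))) (.node (.node (.node (.node (.node (.leaf t54_1) (.leaf t54_33)) (.leaf t54_17)) (.node (.leaf t54_9) (.leaf t54_25))) (.node (.node (.leaf t54_5) (.leaf t54_21)) (.node (.leaf t54_13) (.leaf t54_29)))) (.node (.node (.node (.node (.leaf t54_3) (.leaf t54_35)) (.leaf t54_19)) (.node (.leaf t54_11) (.leaf t54_27))) (.node (.node (.leaf t54_7) (.leaf t54_23)) (.node (.leaf t54_15) (.leaf t54_31))))))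
noncomputable def t55 : Tr ℕ := (.node (.node (.node (.node (.node (.node (.leaf t55_0) (.leaf t55_32)) (.leaf t55_16)) (.node (.leaf t55_8) (.leaf t55_24))) (.node (.node (.leaf t55_4) (.leaf t55_20)) (.node (.leaf t55_12) (.leaf t55_28)))) (.node (.node (.node (.node (.leaf t55_2) (.leaf t55_34)) (.leaf t55_18)) (.node (.leaf t55_10) (.leaf t55_26))) (.node (.node (.leaf t55_6) (.leaf t55_22)) (.node (.leaf t55_14) (.leaf t55_30))))) (.node (.node (.node (.node (.node (.leaf t55_1) (.leaf t55_33)) (.leaf t55_17)) (.node (.leaf t55_9) (.leaf t55_25))) (.node (.node (.leaf t55_5) (.leaf t55_21)) (.node (.leaf t55_13) (.leaf t55_29)))) (.node (.node (.node (.node (.leaf t55_3) (.leaf t55_35)) (.leaf t55_19)) (.node (.leaf t55_11) (.leaf t55_27))) (.node (.node (.leaf t55_7) (.leaf t55_23)) (.node (.leaf t55_15) (.leaf t55_31))))))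
noncomputable def t56 : Tr ℕ := (.node (.node (.node (.node (.node (.node (.leaf t56_0) (.leaf t56_32)) (.leaf t56_16)) (.node (.leaf t56_8) (.leaf t56_24))) (.node (.node (.leaf t56_4) (.leaf t56_20)) (.node (.leaf t56_12) (.leaf t56_28)))) (.node (.node (.node (.node (.leaf t56_2) (.leaf t56_34)) (.leaf t56_18)) (.node (.leaf t56_10) (.leaf t56_26))) (.node (.node (.leaf t56_6) (.leaf t56_22)) (.node (.leaf t56_14) (.leaf t56_30))))) (.node (.node (.node (.node (.node (.leaf t56_1) (.leaf t56_33)) (.leaf t56_17)) (.node (.leaf t56_9) (.leaf t56_25))) (.node (.node (.leaf t56_5) (.leaf t56_21)) (.node (.leaf t56_13) (.leaf t56_29)))) (.node (.node (.node (.node (.leaf t56_3) (.leaf t56_35)) (.leaf t56_19)) (.node (.leaf t56_11) (.leaf t56_27))) (.node (.node (.leaf t56_7) (.leaf t56_23)) (.node (.leaf t56_15) (.leaf t56_31))))))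
noncomputable def t57 : Tr ℕ := (.node (.node (.node (.node (.node (.node (.leaf t57_0) (.leaf t57_32)) (.leaf t57_16)) (.node (.leaf t57_8) (.leaf t57_24))) (.node (.node (.leaf t57_4) (.leaf t57_20)) (.node (.leaf t57_12) (.leaf t57_28)))) (.node (.node (.node (.node (.leaf t57_2) (.leaf t57_34)) (.leaf t57_18)) (.node (.leaf t57_10) (.leaf t57_26))) (.node (.node (.leaf t57_6) (.leaf t57_22)) (.node (.leaf t57_14) (.leaf t57_30))))) (.node (.node (.node (.node (.node (.leaf t57_1) (.leaf t57_33)) (.leaf t57_17)) (.node (.leaf t57_9) (.leaf t57_25))) (.node (.node (.leaf t57_5) (.leaf t57_21)) (.node (.leaf t57_13) (.leaf t57_29)))) (.node (.node (.node (.node (.leaf t57_3) (.leaf t57_35)) (.leaf t57_19)) (.node (.leaf t57_11) (.leaf t57_27))) (.node (.node (.leaf t57_7) (.leaf t57_23)) (.node (.leaf t57_15) (.leaf t57_31))))))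
noncomputable def t58 : Tr ℕ := (.node (.node (.node (.node (.node (.node (.leaf t58_0) (.leaf t58_32)) (.leaf t58_16)) (.node (.leaf t58_8) (.leaf t58_24))) (.node (.node (.leaf t58_4) (.leaf t58_20)) (.node (.leaf t58_12) (.leaf t58_28)))) (.node (.node (.node (.node (.leaf t58_2) (.leaf t58_34)) (.leaf t58_18)) (.node (.leaf t58_10) (.leaf t58_26))) (.node (.node (.leaf t58_6) (.leaf t58_22)) (.node (.leaf t58_14) (.leaf t58_30))))) (.node (.node (.node (.node (.node (.leaf t58_1) (.leaf t58_33)) (.leaf t58_17)) (.node (.leaf t58_9) (.leaf t58_25))) (.node (.node (.leaf t58_5) (.leaf t58_21)) (.node (.leaf t58_13) (.leaf t58_29)))) (.node (.node (.node (.node (.leaf t58_3) (.leaf t58_35)) (.leaf t58_19)) (.node (.leaf t58_11) (.leaf t58_27))) (.node (.node (.leaf t58_7) (.leaf t58_23)) (.node (.leaf t58_15) (.leaf t58_31))))))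
noncomputable def t59 : Tr ℕ := (.node (.node (.node (.node (.node (.node (.leaf t59_0) (.leaf t59_32)) (.leaf t59_16)) (.node (.leaf t59_8) (.leaf t59_24))) (.node (.node (.leaf t59_4) (.leaf t59_20)) (.node (.leaf t59_12) (.leaf t59_28)))) (.node (.node (.node (.node (.leaf t59_2) (.leaf t59_34)) (.leaf t59_18)) (.node (.leaf t59_10) (.leaf t59_26))) (.node (.node (.leaf t59_6) (.leaf t59_22)) (.node (.leaf t59_14) (.leaf t59_30))))) (.node (.node (.node (.node (.node (.leaf t59_1) (.leaf t59_33)) (.leaf t59_17)) (.node (.leaf t59_9) (.leaf t59_25))) (.node (.node (.leaf t59_5) (.leaf t59_21)) (.node (.leaf t59_13) (.leaf t59_29)))) (.node (.node (.node (.node (.leaf t59_3) (.leaf t59_35)) (.leaf t59_19)) (.node (.leaf t59_11) (.leaf t59_27))) (.node (.node (.leaf t59_7) (.leaf t59_23)) (.node (.leaf t59_15) (.leaf t59_31))))))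
noncomputable def t60 : Tr ℕ := (.node (.node (.node (.node (.node (.node (.leaf t60_0) (.leaf t60_32)) (.leaf t60_16)) (.node (.leaf t60_8) (.leaf t60_24))) (.node (.node (.leaf t60_4) (.leaf t60_20)) (.node (.leaf t60_12) (.leaf t60_28)))) (.node (.node (.node (.node (.leaf t60_2) (.leaf t60_34)) (.leaf t60_18)) (.node (.leaf t60_10) (.leaf t60_26))) (.node (.node (.leaf t60_6) (.leaf t60_22)) (.node (.leaf t60_14) (.leaf t60_30))))) (.node (.node (.node (.node (.node (.leaf t60_1) (.leaf t60_33)) (.leaf t60_17)) (.node (.leaf t60_9) (.leaf t60_25))) (.node (.node (.leaf t60_5) (.leaf t60_21)) (.node (.leaf t60_13) (.leaf t60_29)))) (.node (.node (.node (.node (.leaf t60_3) (.leaf t60_35)) (.leaf t60_19)) (.node (.leaf t60_11) (.leaf t60_27))) (.node (.node (.leaf t60_7) (.leaf t60_23)) (.node (.leaf t60_15) (.leaf t60_31))))))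
noncomputable def mc0c : Tr ℕ := (.node (.node (.node (.node (.node (.node (.leaf mc0c_0) (.leaf mc0c_32)) (.leaf mc0c_16)) (.node (.leaf mc0c_8) (.leaf mc0c_24))) (.node (.node (.leaf mc0c_4) (.leaf mc0c_20)) (.node (.leaf mc0c_12) (.leaf mc0c_28)))) (.node (.node (.node (.node (.leaf mc0c_2) (.leaf mc0c_34)) (.leaf mc0c_18)) (.node (.leaf mc0c_10) (.leaf mc0c_26))) (.node (.node (.leaf mc0c_6) (.leaf mc0c_22)) (.node (.leaf mc0c_14) (.leaf mc0c_30))))) (.node (.node (.node (.node (.node (.leaf mc0c_1) (.leaf mc0c_33)) (.leaf mc0c_17)) (.node (.leaf mc0c_9) (.leaf mc0c_25))) (.node (.node (.leaf mc0c_5) (.leaf mc0c_21)) (.node (.leaf mc0c_13) (.leaf mc0c_29)))) (.node (.node (.node (.node (.leaf mc0c_3) (.leaf mc0c_35)) (.leaf mc0c_19)) (.node (.leaf mc0c_11) (.leaf mc0c_27))) (.node (.node (.leaf mc0c_7) (.leaf mc0c_23)) (.node (.leaf mc0c_15) (.leaf mc0c_31))))))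
noncomputable def mc0p : Tr ℕ := (.node (.node (.node (.node (.node (.leaf mc0p_0) (.leaf mc0p_16)) (.node (.leaf mc0p_8) (.leaf mc0p_24))) (.node (.node (.leaf mc0p_4) (.leaf mc0p_20)) (.node (.leaf mc0p_12) (.leaf mc0p_28)))) (.node (.node (.node (.leaf mc0p_2) (.leaf mc0p_18)) (.node (.leaf mc0p_10) (.leaf mc0p_26))) (.node (.node (.leaf mc0p_6) (.leaf mc0p_22)) (.leaf mc0p_14)))) (.node (.node (.node (.node (.leaf mc0p_1) (.leaf mc0p_17)) (.node (.leaf mc0p_9) (.leaf mc0p_25))) (.node (.node (.leaf mc0p_5) (.leaf mc0p_21)) (.node (.leaf mc0p_13) (.leaf mc0p_29)))) (.node (.node (.node (.leaf mc0p_3) (.leaf mc0p_19)) (.node (.leaf mc0p_11) (.leaf mc0p_27))) (.node (.node (.leaf mc0p_7) (.leaf mc0p_23)) (.leaf mc0p_15)))))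
noncomputable def mc0l : Tr ℕ := (.node (.node (.node (.node (.leaf mc0l_0) (.leaf mc0l_8)) (.leaf mc0l_4)) (.node (.node (.leaf mc0l_2) (.leaf mc0l_10)) (.leaf mc0l_6))) (.node (.node (.node (.leaf mc0l_1) (.leaf mc0l_9)) (.leaf mc0l_5)) (.node (.node (.leaf mc0l_3) (.leaf mc0l_11)) (.leaf mc0l_7))))
noncomputable def mc0i : Tr ℕ := (.node (.node (.node (.node (.leaf mc0i_0) (.leaf mc0i_8)) (.leaf mc0i_4)) (.node (.node (.leaf mc0i_2) (.leaf mc0i_10)) (.leaf mc0i_6))) (.node (.node (.node (.leaf mc0i_1) (.leaf mc0i_9)) (.leaf mc0i_5)) (.node (.node (.leaf mc0i_3) (.leaf mc0i_11)) (.leaf mc0i_7))))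
noncomputable def mc0q : Tr ℕ := (.node (.node (.node (.node (.node (.node (.leaf mc0q_0) (.leaf mc0q_32)) (.leaf mc0q_16)) (.node (.leaf mc0q_8) (.leaf mc0q_24))) (.node (.node (.leaf mc0q_4) (.leaf mc0q_20)) (.node (.leaf mc0q_12) (.leaf mc0q_28)))) (.node (.node (.node (.node (.leaf mc0q_2) (.leaf mc0q_34)) (.leaf mc0q_18)) (.node (.leaf mc0q_10) (.leaf mc0q_26))) (.node (.node (.leaf mc0q_6) (.leaf mc0q_22)) (.node (.leaf mc0q_14) (.leaf mc0q_30))))) (.node (.node (.node (.node (.node (.leaf mc0q_1) (.leaf mc0q_33)) (.leaf mc0q_17)) (.node (.leaf mc0q_9) (.leaf mc0q_25))) (.node (.node (.leaf mc0q_5) (.leaf mc0q_21)) (.node (.leaf mc0q_13) (.leaf mc0q_29)))) (.node (.node (.node (.node (.leaf mc0q_3) (.leaf mc0q_35)) (.leaf mc0q_19)) (.node (.leaf mc0q_11) (.leaf mc0q_27))) (.node (.node (.leaf mc0q_7) (.leaf mc0q_23)) (.node (.leaf mc0q_15) (.leaf mc0q_31))))))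
noncomputable def mc1c : Tr ℕ := (.node (.node (.node (.node (.node (.leaf mc1c_0) (.leaf mc1c_16)) (.leaf mc1c_8)) (.node (.leaf mc1c_4) (.leaf mc1c_12))) (.node (.node (.leaf mc1c_2) (.leaf mc1c_10)) (.node (.leaf mc1c_6) (.leaf mc1c_14)))) (.node (.node (.node (.node (.leaf mc1c_1) (.leaf mc1c_17)) (.leaf mc1c_9)) (.node (.leaf mc1c_5) (.leaf mc1c_13))) (.node (.node (.leaf mc1c_3) (.leaf mc1c_11)) (.node (.leaf mc1c_7) (.leaf mc1c_15)))))
noncomputable def mc1p : Tr ℕ := (.node (.node (.node (.node (.leaf mc1p_0) (.leaf mc1p_8)) (.leaf mc1p_4)) (.node (.node (.leaf mc1p_2) (.leaf mc1p_10)) (.leaf mc1p_6))) (.node (.node (.node (.leaf mc1p_1) (.leaf mc1p_9)) (.leaf mc1p_5)) (.node (.node (.leaf mc1p_3) (.leaf mc1p_11)) (.leaf mc1p_7))))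
noncomputable def mc1l : Tr ℕ := (.node (.node (.node (.leaf mc1l_0) (.leaf mc1l_4)) (.leaf mc1l_2)) (.node (.node (.leaf mc1l_1) (.leaf mc1l_5)) (.leaf mc1l_3)))
noncomputable def mc1i : Tr ℕ := (.node (.node (.node (.leaf mc1i_0) (.leaf mc1i_4)) (.leaf mc1i_2)) (.node (.node (.leaf mc1i_1) (.leaf mc1i_5)) (.leaf mc1i_3)))
noncomputable def mc1q : Tr ℕ := (.node (.node (.node (.node (.node (.node (.leaf mc1q_0) (.leaf mc1q_32)) (.leaf mc1q_16)) (.node (.leaf mc1q_8) (.leaf mc1q_24))) (.node (.node (.leaf mc1q_4) (.leaf mc1q_20)) (.node (.leaf mc1q_12) (.leaf mc1q_28)))) (.node (.node (.node (.node (.leaf mc1q_2) (.leaf mc1q_34)) (.leaf mc1q_18)) (.node (.leaf mc1q_10) (.leaf mc1q_26))) (.node (.node (.leaf mc1q_6) (.leaf mc1q_22)) (.node (.leaf mc1q_14) (.leaf mc1q_30))))) (.node (.node (.node (.node (.node (.leaf mc1q_1) (.leaf mc1q_33)) (.leaf mc1q_17)) (.node (.leaf mc1q_9) (.leaf mc1q_25))) (.node (.node (.leaf mc1q_5) (.leaf mc1q_21)) (.node (.leaf mc1q_13)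 (.leaf mc1q_29)))) (.node (.node (.node (.node (.leaf mc1q_3) (.leaf mc1q_35)) (.leaf mc1q_19)) (.node (.leaf mc1q_11) (.leaf mc1q_27))) (.node (.node (.leaf mc1q_7) (.leaf mc1q_23)) (.node (.leaf mc1q_15) (.leaf mc1q_31))))))
noncomputable def mc2c : Tr ℕ := (.node (.node (.node (.leaf mc2c_0) (.leaf mc2c_4)) (.node (.leaf mc2c_2) (.leaf mc2c_6))) (.node (.node (.leaf mc2c_1) (.leaf mc2c_5)) (.node (.leaf mc2c_3) (.leaf mc2c_7))))
noncomputable def mc2p : Tr ℕ := (.node (.node (.node (.leaf mc2p_0) (.leaf mc2p_4)) (.leaf mc2p_2)) (.node (.node (.leaf mc2p_1) (.leaf mc2p_5)) (.leaf mc2p_3)))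
noncomputable def mc2l : Tr ℕ := (.node (.node (.leaf mc2l_0) (.leaf mc2l_2)) (.leaf mc2l_1))
noncomputable def mc2i : Tr ℕ := (.node (.node (.leaf mc2i_0) (.leaf mc2i_2)) (.leaf mc2i_1))
noncomputable def mc2q : Tr ℕ := (.node (.node (.node (.node (.node (.node (.leaf mc2q_0) (.leaf mc2q_32)) (.leaf mc2q_16)) (.node (.leaf mc2q_8) (.leaf mc2q_24))) (.node (.node (.leaf mc2q_4) (.leaf mc2q_20)) (.node (.leaf mc2q_12) (.leaf mc2q_28)))) (.node (.node (.node (.node (.leaf mc2q_2) (.leaf mc2q_34)) (.leaf mc2q_18)) (.node (.leaf mc2q_10) (.leaf mc2q_26))) (.node (.node (.leaf mc2q_6) (.leaf mc2q_22)) (.node (.leaf mc2q_14) (.leaf mc2q_30))))) (.node (.node (.node (.node (.node (.leaf mc2q_1) (.leaf mc2q_33)) (.leaf mc2q_17)) (.node (.leaf mc2q_9) (.leaf mc2q_25))) (.node (.node (.leaf mc2q_5) (.leaf mc2q_21)) (.node (.leaf mc2q_13) (.leaf mc2q_29)))) (.node (.node (.node (.node (.leaf mc2q_3) (.leaf mc2q_35)) (.leaf mc2q_19)) (.node (.leaf mc2q_11) (.leaf mc2q_27)))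 (.node (.node (.leaf mc2q_7) (.leaf mc2q_23)) (.node (.leaf mc2q_15) (.leaf mc2q_31))))))
noncomputable def mc3q : Tr ℕ := (.node (.node (.node (.node (.node (.node (.leaf mc3q_0) (.leaf mc3q_32)) (.leaf mc3q_16)) (.node (.leaf mc3q_8) (.leaf mc3q_24))) (.node (.node (.leaf mc3q_4) (.leaf mc3q_20)) (.node (.leaf mc3q_12) (.leaf mc3q_28)))) (.node (.node (.node (.node (.leaf mc3q_2) (.leaf mc3q_34)) (.leaf mc3q_18)) (.node (.leaf mc3q_10) (.leaf mc3q_26))) (.node (.node (.leaf mc3q_6) (.leaf mc3q_22)) (.node (.leaf mc3q_14) (.leaf mc3q_30))))) (.node (.node (.node (.node (.node (.leaf mc3q_1) (.leaf mc3q_33)) (.leaf mc3q_17)) (.node (.leaf mc3q_9) (.leaf mc3q_25))) (.node (.node (.leaf mc3q_5) (.leaf mc3q_21)) (.node (.leaf mc3q_13) (.leaf mc3q_29)))) (.node (.node (.node (.node (.leaf mc3q_3) (.leaf mc3q_35)) (.leaf mc3q_19)) (.node (.leaf mc3q_11) (.leaf mc3q_27))) (.node (.node (.leaf mc3q_7) (.leaf mc3q_23)) (.node (.leaf mc3q_15) (.leaf mc3q_31))))))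
noncomputable def mc4q : Tr ℕ := (.node (.node (.node (.node (.node (.node (.leaf mc4q_0) (.leaf mc4q_32)) (.leaf mc4q_16)) (.node (.leaf mc4q_8) (.leaf mc4q_24))) (.node (.node (.leaf mc4q_4) (.leaf mc4q_20)) (.node (.leaf mc4q_12) (.leaf mc4q_28)))) (.node (.node (.node (.node (.leaf mc4q_2) (.leaf mc4q_34)) (.leaf mc4q_18)) (.node (.leaf mc4q_10) (.leaf mc4q_26))) (.node (.node (.leaf mc4q_6) (.leaf mc4q_22)) (.node (.leaf mc4q_14) (.leaf mc4q_30))))) (.node (.node (.node (.node (.node (.leaf mc4q_1) (.leaf mc4q_33)) (.leaf mc4q_17)) (.node (.leaf mc4q_9) (.leaf mc4q_25))) (.node (.node (.leaf mc4q_5) (.leaf mc4q_21)) (.node (.leaf mc4q_13) (.leaf mc4q_29)))) (.node (.node (.node (.node (.leaf mc4q_3) (.leaf mc4q_35)) (.leaf mc4q_19)) (.node (.leaf mc4q_11) (.leaf mc4q_27))) (.node (.node (.leaf mc4q_7) (.leaf mc4q_23)) (.node (.leaf mc4q_15) (.leaf mc4q_31))))))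
noncomputable def tabs : List (Tr ℕ) := [t0,t1,t2,t3,t4,t5,t6,t7,t8,t9,t10,t11,t12,t13,t14,t15,t16,t17,t18,t19,t20,t21,t22,t23,t24,t25,t26,t27,t28,t29,t30,t31,t32,t33,t34,t35,t36,t37,t38,t39,t40,t41,t42,t43,t44,t45,t46,t47,t48,t49,t50,t51,t52,t53,t54,t55,t56,t57,t58,t59]
noncomputable abbrev app : ℕ → ℕ → ℕ := appB tabs t60 0xffffff
noncomputable def slpL : List (Bool × List ℕ) := [(false,[]),
  (false,[]),
  (false,[]),
  (false,[0,1,0,2,2,0,1,0,2,0,1,0,1]),
  (true,[3]),
  (false,[3,3,3]),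
  (true,[5]),
  (false,[5,5,5,5,3]),
  (true,[7]),
  (false,[1,0,1,0,1,0,1,0,2,0,2,2,0,1,0,2,0]),
  (true,[9]),
  (false,[9]),
  (true,[11]),
  (false,[0,10,10,10,1,9,1,0,9,9,0,7,0,10,10,0,2,10,2,9,9,9,0]),
  (true,[13]),
  (false,[13,11,14,11,11]),
  (true,[15]),
  (false,[14,15,12]),
  (true,[17]),
  (false,[14,16,11]),
  (true,[19]),
  (false,[18,18,18,18,13,17,19,17]),
  (true,[21]),
  (false,[16,14,16,19,12,19]),
  (true,[23]),
  (false,[18,13,15,11,13,16,16]),
  (true,[25]),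
  (false,[25,22,26,26,21,25,23,23,22]),
  (true,[27]),
  (false,[21,25,24,24,25,22,26,23]),
  (true,[29]),
  (false,[22,26,24,26,26,24,21,26]),
  (true,[31]),
  (false,[32,27,27,32,27,27,31,31]),
  (true,[33]),
  (false,[32,30,32,32,29,29,31,31]),
  (true,[35]),
  (false,[31,31,31,31,28,29,28]),
  (true,[37]),
  (false,[32,27,29,28,32,30,28]),
  (true,[39]),
  (false,[33,39,36,39,33]),
  (true,[41]),
  (false,[33,38,39,35,34]),
  (true,[43]),
  (false,[36,37,34,40,33]),
  (false,[11,11,11,11,11]),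
  (true,[46]),
  (false,[2,0,20,40,1]),
  (true,[48]),
  (false,[2,20,7,19,1]),
  (true,[50]),
  (false,[48,50,48,50,48,48,51,49,51,49,49,51,48]),
  (true,[52]),
  (false,[51,48,50,48,48,50,48,48,50,49,49]),
  (true,[54]),
  (false,[52,52,55,53,55,52,52,55,55,53,54,53]),
  (true,[56]),
  (false,[55,55,55,52,55,55,52,52,54]),
  (true,[58])]
noncomputable def slp (a : ℕ) : Bool × List ℕ := nth slpL (false, []) a
noncomputable def invL : List ℕ := [0,2,1,4,3,6,5,8,7,10,9,12,11,14,13,16,15,18,17,20,19,22,21,24,23,26,25,28,27,30,29,32,31,34,33,36,35,38,37,40,39,42,41,44,43,45,47,46,49,48,51,50,53,52,55,54,57,56,59,58]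
noncomputable def inv (a : ℕ) : ℕ := nth invL 60 a
noncomputable def bs : List ℕ := [347520,1237416,1170744,1744584,2340936]
noncomputable def mc0 : Lvl := ⟨347520, [11,12,13,14,15,16,17,18,19,20], 98280,
  fun i => lk2 mc0c 0xffffff (Nat.mul 24 i), fun i => lk2 mc0p 0xfffff (Nat.mul 20 i),
  fun i => lk2 mc0l 0xff (Nat.mul 8 i), fun i => lk2 mc0i 0xff (Nat.mul 8 i), fun x => lk2 mc0q 0xffffff x, 7⟩
noncomputable def mc1 : Lvl := ⟨1237416, [21,22,23,24,25,26], 46575,
  fun i => lk2 mc1c 0xffffff (Nat.mul 24 i), fun i => lk2 mc1p 0xffff (Nat.mul 16 i),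
  fun i => lk2 mc1l 0xff (Nat.mul 8 i), fun i => lk2 mc1i 0xff (Nat.mul 8 i), fun x => lk2 mc1q 0xffffff x, 8⟩
noncomputable def mc2 : Lvl := ⟨1170744, [27,28,29,30,31,32], 21120,
  fun i => lk2 mc2c 0xffffff (Nat.mul 24 i), fun i => lk2 mc2p 0xffff (Nat.mul 16 i),
  fun i => lk2 mc2l 0xff (Nat.mul 8 i), fun i => lk2 mc2i 0xff (Nat.mul 8 i), fun x => lk2 mc2q 0xffffff x, 8⟩
noncomputable def mc3 : Lvl := ⟨1744584, [33,34,35,36,37,38,39,40], 2688,
  fun i => look 0xffffff mc3c (Nat.mul 24 i), fun i => look 0xfff mc3p (Nat.mul 12 i),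
  fun i => look 0xff mc3l (Nat.mul 8 i), fun i => look 0xff mc3i (Nat.mul 8 i), fun x => lk2 mc3q 0xffffff x, 6⟩
noncomputable def mc4 : Lvl := ⟨2340936, [41,42,43,44,45], 16,
  fun i => look 0xffffff mc4c (Nat.mul 24 i), fun i => look 0xff mc4p (Nat.mul 8 i),
  fun i => look 0xff mc4l (Nat.mul 8 i), fun i => look 0xff mc4i (Nat.mul 8 i), fun x => lk2 mc4q 0xffffff x, 3⟩
noncomputable def mc : List Lvl := [mc0, mc1, mc2, mc3, mc4]

end Cfsg.Agent.CG.Co1
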