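import Cfsg.Agent.Lib.CG.Big2
import Cfsg.Agent.Lib.Grp.Co1.C0
import Cfsg.Agent.Lib.Grp.Co1.C1
import Cfsg.Agent.Lib.Grp.Co1.C2
import Cfsg.Agent.Lib.Grp.Co1.C3

set_option autoImplicit false
set_option maxRecDepth 100000
set_option Elab.async false
set_option linter.unusedSectionVars false

namespace Cfsg.Agent.CG.Co1

theorem tabOK : TabOK 98280 24 app 3 60 inv slp where
  w_pos := by decide
  base := allRange_of_allL (l := [0,1,2]) (by decide +kernel) (allL_cons (allLt_of_allRange (rapp (allRange (chkBase 98280 24 (appB tabs t60 0xffffff) 0 (inv 0))) (fun _ _ _ => allRange_append) 98280 (rapp (allRange (chkBase 98280 24 (appB tabs t60 0xffffff) 0 (inv 0))) (fun _ _ _ => allRange_append) 80000 (rapp (allRange (chkBase 98280 24 (appB tabs t60 0xffffff) 0 (inv 0))) (fun _ _ _ => allRange_append) 60000 (rapp (allRange (chkBase 98280 24 (appB tabs t60 0xffffff) 0 (inv 0))) (fun _ _ _ => allRange_append) 40000 c0 c1 rfl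 rfl) c2 rfl rfl) c3 rfl rfl) c4 rfl rfl)) (allL_cons (allLt_of_allRange (rapp (allRange (chkBase 98280 24 (appB tabs t60 0xffffff) 1 (inv 1))) (fun _ _ _ => allRange_append) 98280 (rapp (allRange (chkBase 98280 24 (appB tabs t60 0xffffff) 1 (inv 1))) (fun _ _ _ => allRange_append) 80000 (rapp (allRange (chkBase 98280 24 (appB tabs t60 0xffffff) 1 (inv 1))) (fun _ _ _ => allRange_append) 60000 (rapp (allRange (chkBase 98280 24 (appB tabs t60 0xffffff) 1 (inv 1))) (fun _ _ _ => allRange_append) 40000 c5 c6 rfl rfl) c7 rfl rfl) c8 rfl rfl) c9 rfl rfl)) (allL_cons (allLt_of_allRange (rapp (allRange (chkBase 98280 24 (appB tabs t60 0xffffff) 2 (inv 2))) (fun _ _ _ => allRange_append) 98280 (rapp (allRange (chkBase 98280 24 (appB tabs t60 0xffffff) 2 (inv 2))) (fun _ _ _ => allRange_append) 80000 (rapp (allRange (chkBase 98280 24 (appB tabs t60 0xffffff) 2 (inv 2))) (fun _ _ _ => allRange_append) 60000 (rapp (allRange (chkBase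 98280 24 (appB tabs t60 0xffffff) 2 (inv 2))) (fun _ _ _ => allRange_append) 40000 c10 c11 rfl rfl) c12 rfl rfl) c13 rfl rfl) c14 rfl rfl)) (allL_nil _))))
  defs := allRange_of_allL (l := [3,4,5,6,7,8,9,10,11,12,13,14,15,16,17,18,19,20,21,22,23,24,25,26,27,28,29,30,31,32,33,34,35,36,37,38,39,40,41,42,43,44,45,46,47,48,49,50,51,52,53,54,55,56,57,58,59]) (by decide +kernel) (allL_cons (rapp (chkDef 24 (appB tabs t60 0xffffff) 3 (slp 3)) (fun _ _ _ => chkDef_append) 98280 (rapp (chkDef 24 (appB tabs t60 0xffffff) 3 (slp 3)) (fun _ _ _ => chkDef_append) 80000 (rapp (chkDef 24 (appB tabs t60 0xffffff) 3 (slp 3)) (fun _ _ _ => chkDef_append) 60000 (rapp (chkDef 24 (appB tabs t60 0xffffff) 3 (slp 3)) (fun _ _ _ => chkDef_append) 40000 c15 c16 rfl rfl) c17 rfl rfl) c18 rfl rfl) c19 rfl rfl) (allL_cons (rapp (chkDef 24 (appB tabs t60 0xffffff) 4 (slp 4)) (fun _ _ _ => chkDef_append) 98280 (rapp (chkDef 24 (appB tabs t60 0xffffff)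 4 (slp 4)) (fun _ _ _ => chkDef_append) 80000 (rapp (chkDef 24 (appB tabs t60 0xffffff) 4 (slp 4)) (fun _ _ _ => chkDef_append) 60000 (rapp (chkDef 24 (appB tabs t60 0xffffff) 4 (slp 4)) (fun _ _ _ => chkDef_append) 40000 c20 c21 rfl rfl) c22 rfl rfl) c23 rfl rfl) c24 rfl rfl) (allL_cons (rapp (chkDef 24 (appB tabs t60 0xffffff) 5 (slp 5)) (fun _ _ _ => chkDef_append) 98280 (rapp (chkDef 24 (appB tabs t60 0xffffff) 5 (slp 5)) (fun _ _ _ => chkDef_append) 80000 (rapp (chkDef 24 (appB tabs t60 0xffffff) 5 (slp 5)) (fun _ _ _ => chkDef_append) 60000 (rapp (chkDef 24 (appB tabs t60 0xffffff) 5 (slp 5)) (fun _ _ _ => chkDef_append) 40000 c25 c26 rfl rfl) c27 rfl rfl) c28 rfl rfl) c29 rfl rfl) (allL_cons (rapp (chkDef 24 (appB tabs t60 0xffffff) 6 (slp 6)) (fun _ _ _ => chkDef_append) 98280 (rapp (chkDef 24 (appB tabs t60 0xffffff) 6 (slp 6)) (fun _ _ _ => chkDef_append) 80000 (rapp (chkDef 24 (appB tabs t60 0xffffff) 6 (slp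 6)) (fun _ _ _ => chkDef_append) 60000 (rapp (chkDef 24 (appB tabs t60 0xffffff) 6 (slp 6)) (fun _ _ _ => chkDef_append) 40000 c30 c31 rfl rfl) c32 rfl rfl) c33 rfl rfl) c34 rfl rfl) (allL_cons (rapp (chkDef 24 (appB tabs t60 0xffffff) 7 (slp 7)) (fun _ _ _ => chkDef_append) 98280 (rapp (chkDef 24 (appB tabs t60 0xffffff) 7 (slp 7)) (fun _ _ _ => chkDef_append) 80000 (rapp (chkDef 24 (appB tabs t60 0xffffff) 7 (slp 7)) (fun _ _ _ => chkDef_append) 60000 (rapp (chkDef 24 (appB tabs t60 0xffffff) 7 (slp 7)) (fun _ _ _ => chkDef_append) 40000 c35 c36 rfl rfl) c37 rfl rfl) c38 rfl rfl) c39 rfl rfl) (allL_cons (rapp (chkDef 24 (appB tabs t60 0xffffff) 8 (slp 8)) (fun _ _ _ => chkDef_append) 98280 (rapp (chkDef 24 (appB tabs t60 0xffffff) 8 (slp 8)) (fun _ _ _ => chkDef_append) 80000 (rapp (chkDef 24 (appB tabs t60 0xffffff) 8 (slp 8)) (fun _ _ _ => chkDef_append) 60000 (rapp (chkDef 24 (appB tabs t60 0xffffff) 8 (slp 8))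 (fun _ _ _ => chkDef_append) 40000 c40 c41 rfl rfl) c42 rfl rfl) c43 rfl rfl) c44 rfl rfl) (allL_cons (rapp (chkDef 24 (appB tabs t60 0xffffff) 9 (slp 9)) (fun _ _ _ => chkDef_append) 98280 (rapp (chkDef 24 (appB tabs t60 0xffffff) 9 (slp 9)) (fun _ _ _ => chkDef_append) 80000 (rapp (chkDef 24 (appB tabs t60 0xffffff) 9 (slp 9)) (fun _ _ _ => chkDef_append) 60000 (rapp (chkDef 24 (appB tabs t60 0xffffff) 9 (slp 9)) (fun _ _ _ => chkDef_append) 40000 c45 c46 rfl rfl) c47 rfl rfl) c48 rfl rfl) c49 rfl rfl) (allL_cons (rapp (chkDef 24 (appB tabs t60 0xffffff) 10 (slp 10)) (fun _ _ _ => chkDef_append) 98280 (rapp (chkDef 24 (appB tabs t60 0xffffff) 10 (slp 10)) (fun _ _ _ => chkDef_append) 80000 (rapp (chkDef 24 (appB tabs t60 0xffffff) 10 (slp 10)) (fun _ _ _ => chkDef_append) 60000 (rapp (chkDef 24 (appB tabs t60 0xffffff) 10 (slp 10)) (fun _ _ _ => chkDef_append) 40000 c50 c51 rfl rfl) c52 rfl rfl) c53 rfl rfl) c54 rfl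 rfl) (allL_cons (rapp (chkDef 24 (appB tabs t60 0xffffff) 11 (slp 11)) (fun _ _ _ => chkDef_append) 98280 (rapp (chkDef 24 (appB tabs t60 0xffffff) 11 (slp 11)) (fun _ _ _ => chkDef_append) 80000 (rapp (chkDef 24 (appB tabs t60 0xffffff) 11 (slp 11)) (fun _ _ _ => chkDef_append) 60000 (rapp (chkDef 24 (appB tabs t60 0xffffff) 11 (slp 11)) (fun _ _ _ => chkDef_append) 40000 c55 c56 rfl rfl) c57 rfl rfl) c58 rfl rfl) c59 rfl rfl) (allL_cons (rapp (chkDef 24 (appB tabs t60 0xffffff) 12 (slp 12)) (fun _ _ _ => chkDef_append) 98280 (rapp (chkDef 24 (appB tabs t60 0xffffff) 12 (slp 12)) (fun _ _ _ => chkDef_append) 80000 (rapp (chkDef 24 (appB tabs t60 0xffffff) 12 (slp 12)) (fun _ _ _ => chkDef_append) 60000 (rapp (chkDef 24 (appB tabs t60 0xffffff) 12 (slp 12)) (fun _ _ _ => chkDef_append) 40000 c60 c61 rfl rfl) c62 rfl rfl) c63 rfl rfl) c64 rfl rfl) (allL_cons (rapp (chkDef 24 (appB tabs t60 0xffffff) 13 (slp 13)) (fun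 _ _ _ => chkDef_append) 98280 (rapp (chkDef 24 (appB tabs t60 0xffffff) 13 (slp 13)) (fun _ _ _ => chkDef_append) 84265 (rapp (chkDef 24 (appB tabs t60 0xffffff) 13 (slp 13)) (fun _ _ _ => chkDef_append) 67412 (rapp (chkDef 24 (appB tabs t60 0xffffff) 13 (slp 13)) (fun _ _ _ => chkDef_append) 50559 (rapp (chkDef 24 (appB tabs t60 0xffffff) 13 (slp 13)) (fun _ _ _ => chkDef_append) 33706 c65 c66 rfl rfl) c67 rfl rfl) c68 rfl rfl) c69 rfl rfl) c70 rfl rfl) (allL_cons (rapp (chkDef 24 (appB tabs t60 0xffffff) 14 (slp 14)) (fun _ _ _ => chkDef_append) 98280 (rapp (chkDef 24 (appB tabs t60 0xffffff) 14 (slp 14)) (fun _ _ _ => chkDef_append) 80000 (rapp (chkDef 24 (appB tabs t60 0xffffff) 14 (slp 14)) (fun _ _ _ => chkDef_append) 60000 (rapp (chkDef 24 (appB tabs t60 0xffffff) 14 (slp 14)) (fun _ _ _ => chkDef_append) 40000 c71 c72 rfl rfl) c73 rfl rfl) c74 rfl rfl) c75 rfl rfl) (allL_cons (rapp (chkDef 24 (appB tabs t60 0xffffff)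 15 (slp 15)) (fun _ _ _ => chkDef_append) 98280 (rapp (chkDef 24 (appB tabs t60 0xffffff) 15 (slp 15)) (fun _ _ _ => chkDef_append) 80000 (rapp (chkDef 24 (appB tabs t60 0xffffff) 15 (slp 15)) (fun _ _ _ => chkDef_append) 60000 (rapp (chkDef 24 (appB tabs t60 0xffffff) 15 (slp 15)) (fun _ _ _ => chkDef_append) 40000 c76 c77 rfl rfl) c78 rfl rfl) c79 rfl rfl) c80 rfl rfl) (allL_cons (rapp (chkDef 24 (appB tabs t60 0xffffff) 16 (slp 16)) (fun _ _ _ => chkDef_append) 98280 (rapp (chkDef 24 (appB tabs t60 0xffffff) 16 (slp 16)) (fun _ _ _ => chkDef_append) 80000 (rapp (chkDef 24 (appB tabs t60 0xffffff) 16 (slp 16)) (fun _ _ _ => chkDef_append) 60000 (rapp (chkDef 24 (appB tabs t60 0xffffff) 16 (slp 16)) (fun _ _ _ => chkDef_append) 40000 c81 c82 rfl rfl) c83 rfl rfl) c84 rfl rfl) c85 rfl rfl) (allL_cons (rapp (chkDef 24 (appB tabs t60 0xffffff) 17 (slp 17)) (fun _ _ _ => chkDef_append) 98280 (rapp (chkDef 24 (appB tabs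 t60 0xffffff) 17 (slp 17)) (fun _ _ _ => chkDef_append) 80000 (rapp (chkDef 24 (appB tabs t60 0xffffff) 17 (slp 17)) (fun _ _ _ => chkDef_append) 60000 (rapp (chkDef 24 (appB tabs t60 0xffffff) 17 (slp 17)) (fun _ _ _ => chkDef_append) 40000 c86 c87 rfl rfl) c88 rfl rfl) c89 rfl rfl) c90 rfl rfl) (allL_cons (rapp (chkDef 24 (appB tabs t60 0xffffff) 18 (slp 18)) (fun _ _ _ => chkDef_append) 98280 (rapp (chkDef 24 (appB tabs t60 0xffffff) 18 (slp 18)) (fun _ _ _ => chkDef_append) 80000 (rapp (chkDef 24 (appB tabs t60 0xffffff) 18 (slp 18)) (fun _ _ _ => chkDef_append) 60000 (rapp (chkDef 24 (appB tabs t60 0xffffff) 18 (slp 18)) (fun _ _ _ => chkDef_append) 40000 c91 c92 rfl rfl) c93 rfl rfl) c94 rfl rfl) c95 rfl rfl) (allL_cons (rapp (chkDef 24 (appB tabs t60 0xffffff) 19 (slp 19)) (fun _ _ _ => chkDef_append) 98280 (rapp (chkDef 24 (appB tabs t60 0xffffff) 19 (slp 19)) (fun _ _ _ => chkDef_append) 80000 (rapp (chkDef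 24 (appB tabs t60 0xffffff) 19 (slp 19)) (fun _ _ _ => chkDef_append) 60000 (rapp (chkDef 24 (appB tabs t60 0xffffff) 19 (slp 19)) (fun _ _ _ => chkDef_append) 40000 c96 c97 rfl rfl) c98 rfl rfl) c99 rfl rfl) c100 rfl rfl) (allL_cons (rapp (chkDef 24 (appB tabs t60 0xffffff) 20 (slp 20)) (fun _ _ _ => chkDef_append) 98280 (rapp (chkDef 24 (appB tabs t60 0xffffff) 20 (slp 20)) (fun _ _ _ => chkDef_append) 80000 (rapp (chkDef 24 (appB tabs t60 0xffffff) 20 (slp 20)) (fun _ _ _ => chkDef_append) 60000 (rapp (chkDef 24 (appB tabs t60 0xffffff) 20 (slp 20)) (fun _ _ _ => chkDef_append) 40000 c101 c102 rfl rfl) c103 rfl rfl) c104 rfl rfl) c105 rfl rfl) (allL_cons (rapp (chkDef 24 (appB tabs t60 0xffffff) 21 (slp 21)) (fun _ _ _ => chkDef_append) 98280 (rapp (chkDef 24 (appB tabs t60 0xffffff) 21 (slp 21)) (fun _ _ _ => chkDef_append) 80000 (rapp (chkDef 24 (appB tabs t60 0xffffff) 21 (slp 21)) (fun _ _ _ => chkDef_append)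 60000 (rapp (chkDef 24 (appB tabs t60 0xffffff) 21 (slp 21)) (fun _ _ _ => chkDef_append) 40000 c106 c107 rfl rfl) c108 rfl rfl) c109 rfl rfl) c110 rfl rfl) (allL_cons (rapp (chkDef 24 (appB tabs t60 0xffffff) 22 (slp 22)) (fun _ _ _ => chkDef_append) 98280 (rapp (chkDef 24 (appB tabs t60 0xffffff) 22 (slp 22)) (fun _ _ _ => chkDef_append) 80000 (rapp (chkDef 24 (appB tabs t60 0xffffff) 22 (slp 22)) (fun _ _ _ => chkDef_append) 60000 (rapp (chkDef 24 (appB tabs t60 0xffffff) 22 (slp 22)) (fun _ _ _ => chkDef_append) 40000 c111 c112 rfl rfl) c113 rfl rfl) c114 rfl rfl) c115 rfl rfl) (allL_cons (rapp (chkDef 24 (appB tabs t60 0xffffff) 23 (slp 23)) (fun _ _ _ => chkDef_append) 98280 (rapp (chkDef 24 (appB tabs t60 0xffffff) 23 (slp 23)) (fun _ _ _ => chkDef_append) 80000 (rapp (chkDef 24 (appB tabs t60 0xffffff) 23 (slp 23)) (fun _ _ _ => chkDef_append) 60000 (rapp (chkDef 24 (appB tabs t60 0xffffff) 23 (slp 23)) (fun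 _ _ _ => chkDef_append) 40000 c116 c117 rfl rfl) c118 rfl rfl) c119 rfl rfl) c120 rfl rfl) (allL_cons (rapp (chkDef 24 (appB tabs t60 0xffffff) 24 (slp 24)) (fun _ _ _ => chkDef_append) 98280 (rapp (chkDef 24 (appB tabs t60 0xffffff) 24 (slp 24)) (fun _ _ _ => chkDef_append) 80000 (rapp (chkDef 24 (appB tabs t60 0xffffff) 24 (slp 24)) (fun _ _ _ => chkDef_append) 60000 (rapp (chkDef 24 (appB tabs t60 0xffffff) 24 (slp 24)) (fun _ _ _ => chkDef_append) 40000 c121 c122 rfl rfl) c123 rfl rfl) c124 rfl rfl) c125 rfl rfl) (allL_cons (rapp (chkDef 24 (appB tabs t60 0xffffff) 25 (slp 25)) (fun _ _ _ => chkDef_append) 98280 (rapp (chkDef 24 (appB tabs t60 0xffffff) 25 (slp 25)) (fun _ _ _ => chkDef_append) 80000 (rapp (chkDef 24 (appB tabs t60 0xffffff) 25 (slp 25)) (fun _ _ _ => chkDef_append) 60000 (rapp (chkDef 24 (appB tabs t60 0xffffff) 25 (slp 25)) (fun _ _ _ => chkDef_append) 40000 c126 c127 rfl rfl) c128 rfl rfl) c129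 rfl rfl) c130 rfl rfl) (allL_cons (rapp (chkDef 24 (appB tabs t60 0xffffff) 26 (slp 26)) (fun _ _ _ => chkDef_append) 98280 (rapp (chkDef 24 (appB tabs t60 0xffffff) 26 (slp 26)) (fun _ _ _ => chkDef_append) 80000 (rapp (chkDef 24 (appB tabs t60 0xffffff) 26 (slp 26)) (fun _ _ _ => chkDef_append) 60000 (rapp (chkDef 24 (appB tabs t60 0xffffff) 26 (slp 26)) (fun _ _ _ => chkDef_append) 40000 c131 c132 rfl rfl) c133 rfl rfl) c134 rfl rfl) c135 rfl rfl) (allL_cons (rapp (chkDef 24 (appB tabs t60 0xffffff) 27 (slp 27)) (fun _ _ _ => chkDef_append) 98280 (rapp (chkDef 24 (appB tabs t60 0xffffff) 27 (slp 27)) (fun _ _ _ => chkDef_append) 80000 (rapp (chkDef 24 (appB tabs t60 0xffffff) 27 (slp 27)) (fun _ _ _ => chkDef_append) 60000 (rapp (chkDef 24 (appB tabs t60 0xffffff) 27 (slp 27)) (fun _ _ _ => chkDef_append) 40000 c136 c137 rfl rfl) c138 rfl rfl) c139 rfl rfl) c140 rfl rfl) (allL_cons (rapp (chkDef 24 (appB tabs t60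 0xffffff) 28 (slp 28)) (fun _ _ _ => chkDef_append) 98280 (rapp (chkDef 24 (appB tabs t60 0xffffff) 28 (slp 28)) (fun _ _ _ => chkDef_append) 80000 (rapp (chkDef 24 (appB tabs t60 0xffffff) 28 (slp 28)) (fun _ _ _ => chkDef_append) 60000 (rapp (chkDef 24 (appB tabs t60 0xffffff) 28 (slp 28)) (fun _ _ _ => chkDef_append) 40000 c141 c142 rfl rfl) c143 rfl rfl) c144 rfl rfl) c145 rfl rfl) (allL_cons (rapp (chkDef 24 (appB tabs t60 0xffffff) 29 (slp 29)) (fun _ _ _ => chkDef_append) 98280 (rapp (chkDef 24 (appB tabs t60 0xffffff) 29 (slp 29)) (fun _ _ _ => chkDef_append) 80000 (rapp (chkDef 24 (appB tabs t60 0xffffff) 29 (slp 29)) (fun _ _ _ => chkDef_append) 60000 (rapp (chkDef 24 (appB tabs t60 0xffffff) 29 (slp 29)) (fun _ _ _ => chkDef_append) 40000 c146 c147 rfl rfl) c148 rfl rfl) c149 rfl rfl) c150 rfl rfl) (allL_cons (rapp (chkDef 24 (appB tabs t60 0xffffff) 30 (slp 30)) (fun _ _ _ => chkDef_append) 98280 (rapp (chkDef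 24 (appB tabs t60 0xffffff) 30 (slp 30)) (fun _ _ _ => chkDef_append) 80000 (rapp (chkDef 24 (appB tabs t60 0xffffff) 30 (slp 30)) (fun _ _ _ => chkDef_append) 60000 (rapp (chkDef 24 (appB tabs t60 0xffffff) 30 (slp 30)) (fun _ _ _ => chkDef_append) 40000 c151 c152 rfl rfl) c153 rfl rfl) c154 rfl rfl) c155 rfl rfl) (allL_cons (rapp (chkDef 24 (appB tabs t60 0xffffff) 31 (slp 31)) (fun _ _ _ => chkDef_append) 98280 (rapp (chkDef 24 (appB tabs t60 0xffffff) 31 (slp 31)) (fun _ _ _ => chkDef_append) 80000 (rapp (chkDef 24 (appB tabs t60 0xffffff) 31 (slp 31)) (fun _ _ _ => chkDef_append) 60000 (rapp (chkDef 24 (appB tabs t60 0xffffff) 31 (slp 31)) (fun _ _ _ => chkDef_append) 40000 c156 c157 rfl rfl) c158 rfl rfl) c159 rfl rfl) c160 rfl rfl) (allL_cons (rapp (chkDef 24 (appB tabs t60 0xffffff) 32 (slp 32)) (fun _ _ _ => chkDef_append) 98280 (rapp (chkDef 24 (appB tabs t60 0xffffff) 32 (slp 32)) (fun _ _ _ => chkDef_append)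 80000 (rapp (chkDef 24 (appB tabs t60 0xffffff) 32 (slp 32)) (fun _ _ _ => chkDef_append) 60000 (rapp (chkDef 24 (appB tabs t60 0xffffff) 32 (slp 32)) (fun _ _ _ => chkDef_append) 40000 c161 c162 rfl rfl) c163 rfl rfl) c164 rfl rfl) c165 rfl rfl) (allL_cons (rapp (chkDef 24 (appB tabs t60 0xffffff) 33 (slp 33)) (fun _ _ _ => chkDef_append) 98280 (rapp (chkDef 24 (appB tabs t60 0xffffff) 33 (slp 33)) (fun _ _ _ => chkDef_append) 80000 (rapp (chkDef 24 (appB tabs t60 0xffffff) 33 (slp 33)) (fun _ _ _ => chkDef_append) 60000 (rapp (chkDef 24 (appB tabs t60 0xffffff) 33 (slp 33)) (fun _ _ _ => chkDef_append) 40000 c166 c167 rfl rfl) c168 rfl rfl) c169 rfl rfl) c170 rfl rfl) (allL_cons (rapp (chkDef 24 (appB tabs t60 0xffffff) 34 (slp 34)) (fun _ _ _ => chkDef_append) 98280 (rapp (chkDef 24 (appB tabs t60 0xffffff) 34 (slp 34)) (fun _ _ _ => chkDef_append) 80000 (rapp (chkDef 24 (appB tabs t60 0xffffff) 34 (slp 34)) (fun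 _ _ _ => chkDef_append) 60000 (rapp (chkDef 24 (appB tabs t60 0xffffff) 34 (slp 34)) (fun _ _ _ => chkDef_append) 40000 c171 c172 rfl rfl) c173 rfl rfl) c174 rfl rfl) c175 rfl rfl) (allL_cons (rapp (chkDef 24 (appB tabs t60 0xffffff) 35 (slp 35)) (fun _ _ _ => chkDef_append) 98280 (rapp (chkDef 24 (appB tabs t60 0xffffff) 35 (slp 35)) (fun _ _ _ => chkDef_append) 80000 (rapp (chkDef 24 (appB tabs t60 0xffffff) 35 (slp 35)) (fun _ _ _ => chkDef_append) 60000 (rapp (chkDef 24 (appB tabs t60 0xffffff) 35 (slp 35)) (fun _ _ _ => chkDef_append) 40000 c176 c177 rfl rfl) c178 rfl rfl) c179 rfl rfl) c180 rfl rfl) (allL_cons (rapp (chkDef 24 (appB tabs t60 0xffffff) 36 (slp 36)) (fun _ _ _ => chkDef_append) 98280 (rapp (chkDef 24 (appB tabs t60 0xffffff) 36 (slp 36)) (fun _ _ _ => chkDef_append) 80000 (rapp (chkDef 24 (appB tabs t60 0xffffff) 36 (slp 36)) (fun _ _ _ => chkDef_append) 60000 (rapp (chkDef 24 (appB tabs t60 0xffffff)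 36 (slp 36)) (fun _ _ _ => chkDef_append) 40000 c181 c182 rfl rfl) c183 rfl rfl) c184 rfl rfl) c185 rfl rfl) (allL_cons (rapp (chkDef 24 (appB tabs t60 0xffffff) 37 (slp 37)) (fun _ _ _ => chkDef_append) 98280 (rapp (chkDef 24 (appB tabs t60 0xffffff) 37 (slp 37)) (fun _ _ _ => chkDef_append) 80000 (rapp (chkDef 24 (appB tabs t60 0xffffff) 37 (slp 37)) (fun _ _ _ => chkDef_append) 60000 (rapp (chkDef 24 (appB tabs t60 0xffffff) 37 (slp 37)) (fun _ _ _ => chkDef_append) 40000 c186 c187 rfl rfl) c188 rfl rfl) c189 rfl rfl) c190 rfl rfl) (allL_cons (rapp (chkDef 24 (appB tabs t60 0xffffff) 38 (slp 38)) (fun _ _ _ => chkDef_append) 98280 (rapp (chkDef 24 (appB tabs t60 0xffffff) 38 (slp 38)) (fun _ _ _ => chkDef_append) 80000 (rapp (chkDef 24 (appB tabs t60 0xffffff) 38 (slp 38)) (fun _ _ _ => chkDef_append) 60000 (rapp (chkDef 24 (appB tabs t60 0xffffff) 38 (slp 38)) (fun _ _ _ => chkDef_append) 40000 c191 c192 rfl rfl)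 c193 rfl rfl) c194 rfl rfl) c195 rfl rfl) (allL_cons (rapp (chkDef 24 (appB tabs t60 0xffffff) 39 (slp 39)) (fun _ _ _ => chkDef_append) 98280 (rapp (chkDef 24 (appB tabs t60 0xffffff) 39 (slp 39)) (fun _ _ _ => chkDef_append) 80000 (rapp (chkDef 24 (appB tabs t60 0xffffff) 39 (slp 39)) (fun _ _ _ => chkDef_append) 60000 (rapp (chkDef 24 (appB tabs t60 0xffffff) 39 (slp 39)) (fun _ _ _ => chkDef_append) 40000 c196 c197 rfl rfl) c198 rfl rfl) c199 rfl rfl) c200 rfl rfl) (allL_cons (rapp (chkDef 24 (appB tabs t60 0xffffff) 40 (slp 40)) (fun _ _ _ => chkDef_append) 98280 (rapp (chkDef 24 (appB tabs t60 0xffffff) 40 (slp 40)) (fun _ _ _ => chkDef_append) 80000 (rapp (chkDef 24 (appB tabs t60 0xffffff) 40 (slp 40)) (fun _ _ _ => chkDef_append) 60000 (rapp (chkDef 24 (appB tabs t60 0xffffff) 40 (slp 40)) (fun _ _ _ => chkDef_append) 40000 c201 c202 rfl rfl) c203 rfl rfl) c204 rfl rfl) c205 rfl rfl) (allL_cons (rapp (chkDef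 24 (appB tabs t60 0xffffff) 41 (slp 41)) (fun _ _ _ => chkDef_append) 98280 (rapp (chkDef 24 (appB tabs t60 0xffffff) 41 (slp 41)) (fun _ _ _ => chkDef_append) 80000 (rapp (chkDef 24 (appB tabs t60 0xffffff) 41 (slp 41)) (fun _ _ _ => chkDef_append) 60000 (rapp (chkDef 24 (appB tabs t60 0xffffff) 41 (slp 41)) (fun _ _ _ => chkDef_append) 40000 c206 c207 rfl rfl) c208 rfl rfl) c209 rfl rfl) c210 rfl rfl) (allL_cons (rapp (chkDef 24 (appB tabs t60 0xffffff) 42 (slp 42)) (fun _ _ _ => chkDef_append) 98280 (rapp (chkDef 24 (appB tabs t60 0xffffff) 42 (slp 42)) (fun _ _ _ => chkDef_append) 80000 (rapp (chkDef 24 (appB tabs t60 0xffffff) 42 (slp 42)) (fun _ _ _ => chkDef_append) 60000 (rapp (chkDef 24 (appB tabs t60 0xffffff) 42 (slp 42)) (fun _ _ _ => chkDef_append) 40000 c211 c212 rfl rfl) c213 rfl rfl) c214 rfl rfl) c215 rfl rfl) (allL_cons (rapp (chkDef 24 (appB tabs t60 0xffffff) 43 (slp 43)) (fun _ _ _ => chkDef_append)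 98280 (rapp (chkDef 24 (appB tabs t60 0xffffff) 43 (slp 43)) (fun _ _ _ => chkDef_append) 80000 (rapp (chkDef 24 (appB tabs t60 0xffffff) 43 (slp 43)) (fun _ _ _ => chkDef_append) 60000 (rapp (chkDef 24 (appB tabs t60 0xffffff) 43 (slp 43)) (fun _ _ _ => chkDef_append) 40000 c216 c217 rfl rfl) c218 rfl rfl) c219 rfl rfl) c220 rfl rfl) (allL_cons (rapp (chkDef 24 (appB tabs t60 0xffffff) 44 (slp 44)) (fun _ _ _ => chkDef_append) 98280 (rapp (chkDef 24 (appB tabs t60 0xffffff) 44 (slp 44)) (fun _ _ _ => chkDef_append) 80000 (rapp (chkDef 24 (appB tabs t60 0xffffff) 44 (slp 44)) (fun _ _ _ => chkDef_append) 60000 (rapp (chkDef 24 (appB tabs t60 0xffffff) 44 (slp 44)) (fun _ _ _ => chkDef_append) 40000 c221 c222 rfl rfl) c223 rfl rfl) c224 rfl rfl) c225 rfl rfl) (allL_cons (rapp (chkDef 24 (appB tabs t60 0xffffff) 45 (slp 45)) (fun _ _ _ => chkDef_append) 98280 (rapp (chkDef 24 (appB tabs t60 0xffffff) 45 (slp 45)) (fun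 _ _ _ => chkDef_append) 80000 (rapp (chkDef 24 (appB tabs t60 0xffffff) 45 (slp 45)) (fun _ _ _ => chkDef_append) 60000 (rapp (chkDef 24 (appB tabs t60 0xffffff) 45 (slp 45)) (fun _ _ _ => chkDef_append) 40000 c226 c227 rfl rfl) c228 rfl rfl) c229 rfl rfl) c230 rfl rfl) (allL_cons (rapp (chkDef 24 (appB tabs t60 0xffffff) 46 (slp 46)) (fun _ _ _ => chkDef_append) 98280 (rapp (chkDef 24 (appB tabs t60 0xffffff) 46 (slp 46)) (fun _ _ _ => chkDef_append) 80000 (rapp (chkDef 24 (appB tabs t60 0xffffff) 46 (slp 46)) (fun _ _ _ => chkDef_append) 60000 (rapp (chkDef 24 (appB tabs t60 0xffffff) 46 (slp 46)) (fun _ _ _ => chkDef_append) 40000 c231 c232 rfl rfl) c233 rfl rfl) c234 rfl rfl) c235 rfl rfl) (allL_cons (rapp (chkDef 24 (appB tabs t60 0xffffff) 47 (slp 47)) (fun _ _ _ => chkDef_append) 98280 (rapp (chkDef 24 (appB tabs t60 0xffffff) 47 (slp 47)) (fun _ _ _ => chkDef_append) 80000 (rapp (chkDef 24 (appB tabs t60 0xffffff)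 47 (slp 47)) (fun _ _ _ => chkDef_append) 60000 (rapp (chkDef 24 (appB tabs t60 0xffffff) 47 (slp 47)) (fun _ _ _ => chkDef_append) 40000 c236 c237 rfl rfl) c238 rfl rfl) c239 rfl rfl) c240 rfl rfl) (allL_cons (rapp (chkDef 24 (appB tabs t60 0xffffff) 48 (slp 48)) (fun _ _ _ => chkDef_append) 98280 (rapp (chkDef 24 (appB tabs t60 0xffffff) 48 (slp 48)) (fun _ _ _ => chkDef_append) 80000 (rapp (chkDef 24 (appB tabs t60 0xffffff) 48 (slp 48)) (fun _ _ _ => chkDef_append) 60000 (rapp (chkDef 24 (appB tabs t60 0xffffff) 48 (slp 48)) (fun _ _ _ => chkDef_append) 40000 c241 c242 rfl rfl) c243 rfl rfl) c244 rfl rfl) c245 rfl rfl) (allL_cons (rapp (chkDef 24 (appB tabs t60 0xffffff) 49 (slp 49)) (fun _ _ _ => chkDef_append) 98280 (rapp (chkDef 24 (appB tabs t60 0xffffff) 49 (slp 49)) (fun _ _ _ => chkDef_append) 80000 (rapp (chkDef 24 (appB tabs t60 0xffffff) 49 (slp 49)) (fun _ _ _ => chkDef_append) 60000 (rapp (chkDef 24 (appB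 tabs t60 0xffffff) 49 (slp 49)) (fun _ _ _ => chkDef_append) 40000 c246 c247 rfl rfl) c248 rfl rfl) c249 rfl rfl) c250 rfl rfl) (allL_cons (rapp (chkDef 24 (appB tabs t60 0xffffff) 50 (slp 50)) (fun _ _ _ => chkDef_append) 98280 (rapp (chkDef 24 (appB tabs t60 0xffffff) 50 (slp 50)) (fun _ _ _ => chkDef_append) 80000 (rapp (chkDef 24 (appB tabs t60 0xffffff) 50 (slp 50)) (fun _ _ _ => chkDef_append) 60000 (rapp (chkDef 24 (appB tabs t60 0xffffff) 50 (slp 50)) (fun _ _ _ => chkDef_append) 40000 c251 c252 rfl rfl) c253 rfl rfl) c254 rfl rfl) c255 rfl rfl) (allL_cons (rapp (chkDef 24 (appB tabs t60 0xffffff) 51 (slp 51)) (fun _ _ _ => chkDef_append) 98280 (rapp (chkDef 24 (appB tabs t60 0xffffff) 51 (slp 51)) (fun _ _ _ => chkDef_append) 80000 (rapp (chkDef 24 (appB tabs t60 0xffffff) 51 (slp 51)) (fun _ _ _ => chkDef_append) 60000 (rapp (chkDef 24 (appB tabs t60 0xffffff) 51 (slp 51)) (fun _ _ _ => chkDef_append) 40000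 c256 c257 rfl rfl) c258 rfl rfl) c259 rfl rfl) c260 rfl rfl) (allL_cons (rapp (chkDef 24 (appB tabs t60 0xffffff) 52 (slp 52)) (fun _ _ _ => chkDef_append) 98280 (rapp (chkDef 24 (appB tabs t60 0xffffff) 52 (slp 52)) (fun _ _ _ => chkDef_append) 80000 (rapp (chkDef 24 (appB tabs t60 0xffffff) 52 (slp 52)) (fun _ _ _ => chkDef_append) 60000 (rapp (chkDef 24 (appB tabs t60 0xffffff) 52 (slp 52)) (fun _ _ _ => chkDef_append) 40000 c261 c262 rfl rfl) c263 rfl rfl) c264 rfl rfl) c265 rfl rfl) (allL_cons (rapp (chkDef 24 (appB tabs t60 0xffffff) 53 (slp 53)) (fun _ _ _ => chkDef_append) 98280 (rapp (chkDef 24 (appB tabs t60 0xffffff) 53 (slp 53)) (fun _ _ _ => chkDef_append) 80000 (rapp (chkDef 24 (appB tabs t60 0xffffff) 53 (slp 53)) (fun _ _ _ => chkDef_append) 60000 (rapp (chkDef 24 (appB tabs t60 0xffffff) 53 (slp 53)) (fun _ _ _ => chkDef_append) 40000 c266 c267 rfl rfl) c268 rfl rfl) c269 rfl rfl) c270 rfl rfl) (allL_cons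 (rapp (chkDef 24 (appB tabs t60 0xffffff) 54 (slp 54)) (fun _ _ _ => chkDef_append) 98280 (rapp (chkDef 24 (appB tabs t60 0xffffff) 54 (slp 54)) (fun _ _ _ => chkDef_append) 80000 (rapp (chkDef 24 (appB tabs t60 0xffffff) 54 (slp 54)) (fun _ _ _ => chkDef_append) 60000 (rapp (chkDef 24 (appB tabs t60 0xffffff) 54 (slp 54)) (fun _ _ _ => chkDef_append) 40000 c271 c272 rfl rfl) c273 rfl rfl) c274 rfl rfl) c275 rfl rfl) (allL_cons (rapp (chkDef 24 (appB tabs t60 0xffffff) 55 (slp 55)) (fun _ _ _ => chkDef_append) 98280 (rapp (chkDef 24 (appB tabs t60 0xffffff) 55 (slp 55)) (fun _ _ _ => chkDef_append) 80000 (rapp (chkDef 24 (appB tabs t60 0xffffff) 55 (slp 55)) (fun _ _ _ => chkDef_append) 60000 (rapp (chkDef 24 (appB tabs t60 0xffffff) 55 (slp 55)) (fun _ _ _ => chkDef_append) 40000 c276 c277 rfl rfl) c278 rfl rfl) c279 rfl rfl) c280 rfl rfl) (allL_cons (rapp (chkDef 24 (appB tabs t60 0xffffff) 56 (slp 56)) (fun _ _ _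 => chkDef_append) 98280 (rapp (chkDef 24 (appB tabs t60 0xffffff) 56 (slp 56)) (fun _ _ _ => chkDef_append) 80000 (rapp (chkDef 24 (appB tabs t60 0xffffff) 56 (slp 56)) (fun _ _ _ => chkDef_append) 60000 (rapp (chkDef 24 (appB tabs t60 0xffffff) 56 (slp 56)) (fun _ _ _ => chkDef_append) 40000 c281 c282 rfl rfl) c283 rfl rfl) c284 rfl rfl) c285 rfl rfl) (allL_cons (rapp (chkDef 24 (appB tabs t60 0xffffff) 57 (slp 57)) (fun _ _ _ => chkDef_append) 98280 (rapp (chkDef 24 (appB tabs t60 0xffffff) 57 (slp 57)) (fun _ _ _ => chkDef_append) 80000 (rapp (chkDef 24 (appB tabs t60 0xffffff) 57 (slp 57)) (fun _ _ _ => chkDef_append) 60000 (rapp (chkDef 24 (appB tabs t60 0xffffff) 57 (slp 57)) (fun _ _ _ => chkDef_append) 40000 c286 c287 rfl rfl) c288 rfl rfl) c289 rfl rfl) c290 rfl rfl) (allL_cons (rapp (chkDef 24 (appB tabs t60 0xffffff) 58 (slp 58)) (fun _ _ _ => chkDef_append) 98280 (rapp (chkDef 24 (appB tabs t60 0xffffff)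 58 (slp 58)) (fun _ _ _ => chkDef_append) 80000 (rapp (chkDef 24 (appB tabs t60 0xffffff) 58 (slp 58)) (fun _ _ _ => chkDef_append) 60000 (rapp (chkDef 24 (appB tabs t60 0xffffff) 58 (slp 58)) (fun _ _ _ => chkDef_append) 40000 c291 c292 rfl rfl) c293 rfl rfl) c294 rfl rfl) c295 rfl rfl) (allL_cons (rapp (chkDef 24 (appB tabs t60 0xffffff) 59 (slp 59)) (fun _ _ _ => chkDef_append) 98280 (rapp (chkDef 24 (appB tabs t60 0xffffff) 59 (slp 59)) (fun _ _ _ => chkDef_append) 80000 (rapp (chkDef 24 (appB tabs t60 0xffffff) 59 (slp 59)) (fun _ _ _ => chkDef_append) 60000 (rapp (chkDef 24 (appB tabs t60 0xffffff) 59 (slp 59)) (fun _ _ _ => chkDef_append) 40000 c296 c297 rfl rfl) c298 rfl rfl) c299 rfl rfl) c300 rfl rfl) (allL_nil _))))))))))))))))))))))))))))))))))))))))))))))))))))))))))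
  lt := by decide +kernel
  triv := appB_triv (by decide +kernel)
  trivk := (rapp (chkDef 24 (appB tabs t60 0xffffff) 60 (false, [])) (fun _ _ _ => chkDef_append) 98280 (rapp (chkDef 24 (appB tabs t60 0xffffff) 60 (false, [])) (fun _ _ _ => chkDef_append) 80000 (rapp (chkDef 24 (appB tabs t60 0xffffff) 60 (false, [])) (fun _ _ _ => chkDef_append) 60000 (rapp (chkDef 24 (appB tabs t60 0xffffff) 60 (false, [])) (fun _ _ _ => chkDef_append) 40000 c301 c302 rfl rfl) c303 rfl rfl) c304 rfl rfl) c305 rfl rfl)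

/-- The group generated by the basic tables. -/
noncomputable abbrev PG : Subgroup (Equiv.Perm (Fin 98280)) := tabGroup 98280 24 app 3

noncomputable def act : Act PG (Fin 98280) := tabOK.act

theorem chain : ChainOK act mc [] :=
  chainOK_of_chk act mc [] (by simp) (okc_of_okcb c318) c319
  (allL_cons (rapp (mc0.chk (appB tabs t60 0xffffff)) (fun _ _ _ => Lvl.chk_append) 98279 (rapp (mc0.chk (appB tabs t60 0xffffff)) (fun _ _ _ => Lvl.chk_append) 80000 (rapp (mc0.chk (appB tabs t60 0xffffff)) (fun _ _ _ => Lvl.chk_append) 60000 (rapp (mc0.chk (appB tabs t60 0xffffff)) (fun _ _ _ => Lvl.chk_append) 40000 c306 c307 rfl rfl) c308 rfl rfl) c309 rfl rfl) c310 rfl rfl) (allL_cons (rapp (mc1.chk (appB tabs t60 0xffffff)) (fun _ _ _ => Lvl.chk_append) 46574 (rapp (mc1.chk (appB tabs t60 0xffffff)) (fun _ _ _ => Lvl.chk_append) 40000 c311 c312 rfl rfl) c313 rfl rfl) (allL_cons (rapp (mc2.chk (appB tabs t60 0xffffff)) (fun _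 _ _ => Lvl.chk_append) 21119 c314 c315 rfl rfl) (allL_cons c316 (allL_cons c317 (allL_nil _))))))

theorem prod_mc : prodN mc = 4157776806543360000 := by decide +kernel

theorem le_card : 4157776806543360000 ≤ Nat.card PG := prod_mc ▸ chain.prodN_le_card

variable [hle : Fact (Nat.card PG ≤ 4157776806543360000)]
include hle

theorem card_le : Nat.card PG ≤ prodN mc := prod_mc ▸ hle.out

theorem card : Nat.card PG = 4157776806543360000 := prod_mc ▸ chain.card_eq card_le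

theorem base : act.IsBase bs := (show bases mc = bs from (eqL_iff _ _).1 (by decide +kernel)) ▸ chain.isBase card_le

theorem hinv : ∀ a, act.gen (inv a) = (act.gen a)⁻¹ :=
  tabOK.inv (by decide) base (by decide +kernel) (by decide +kernel)

theorem clAT : cl act.gen [11, 13] = ⊤ :=
  tabOK.cl_eq_top_of_chain (lo := 11) (cnt := 35) (by decide) (by decide) (by decide +kernel) chain card_le (by decide +kernel)

end Cfsg.Agent.CG.Co1
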