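import Cfsg.Agent.Lib.Grp.Co1.ODefs

set_option autoImplicit false
set_option maxRecDepth 100000
set_option Elab.async false
set_option linter.unusedSectionVars false

namespace Cfsg.Agent.CG.Co1

theorem Oc320 : cc0.chk (appB tabs t60 0xffffff) 1 20000 = true := by decide +kernel
theorem Oc321 : cc0.chk (appB tabs t60 0xffffff) 20001 20000 = true := by decide +kernel
theorem Oc322 : cc0.chk (appB tabs t60 0xffffff) 40001 20000 = true := by decide +kernel
theorem Oc323 : cc0.chk (appB tabs t60 0xffffff) 60001 20000 = true := by decide +kernel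
theorem Oc324 : cc0.chk (appB tabs t60 0xffffff) 80001 18279 = true := by decide +kernel
theorem Oc325 : cc1.chk (appB tabs t60 0xffffff) 1 20000 = true := by decide +kernel
theorem Oc326 : cc1.chk (appB tabs t60 0xffffff) 20001 735 = true := by decide +kernel
theorem Oc327 : cc2.chk (appB tabs t60 0xffffff) 1 659 = true := by decide +kernel
theorem Oc328 : okcb 98280 24 (bases cc) = true := by decide +kernel
theorem Oc329 : headAll (appB tabs t60 0xffffff) cc [] = true := by decide +kernel
theorem Oc330 : trChk (appB tabs t60 0xffffff) mc0 [mc1, mc2, mc3, mc4] bs (diagQ pQ) (diagQ pR) pF 0 1785 = true := by decide +kernel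
theorem Oc331 : trChk (appB tabs t60 0xffffff) mc0 [mc1, mc2, mc3, mc4] bs (diagQ pQ) (diagQ pR) pF 1785 1785 = true := by decide +kernel
theorem Oc332 : trChk (appB tabs t60 0xffffff) mc0 [mc1, mc2, mc3, mc4] bs (diagQ pQ) (diagQ pR) pF 3570 1785 = true := by decide +kernel
theorem Oc333 : trChk (appB tabs t60 0xffffff) mc0 [mc1, mc2, mc3, mc4] bs (diagQ pQ) (diagQ pR) pF 5355 1785 = true := by decide +kernel
theorem Oc334 : trChk (appB tabs t60 0xffffff) mc0 [mc1, mc2, mc3, mc4] bs (diagQ pQ) (diagQ pR) pF 7140 1785 = true := by decide +kernel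
theorem Oc335 : trChk (appB tabs t60 0xffffff) mc0 [mc1, mc2, mc3, mc4] bs (diagQ pQ) (diagQ pR) pF 8925 1785 = true := by decide +kernel
theorem Oc336 : trChk (appB tabs t60 0xffffff) mc0 [mc1, mc2, mc3, mc4] bs (diagQ pQ) (diagQ pR) pF 10710 1785 = true := by decide +kernel
theorem Oc337 : trChk (appB tabs t60 0xffffff) mc0 [mc1, mc2, mc3, mc4] bs (diagQ pQ) (diagQ pR) pF 12495 1785 = true := by decide +kernel
theorem Oc338 : trChk (appB tabs t60 0xffffff) mc0 [mc1, mc2, mc3, mc4] bs (diagQ pQ) (diagQ pR) pF 14280 1785 = true := by decide +kernel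
theorem Oc339 : trChk (appB tabs t60 0xffffff) mc0 [mc1, mc2, mc3, mc4] bs (diagQ pQ) (diagQ pR) pF 16065 1785 = true := by decide +kernel
theorem Oc340 : trChk (appB tabs t60 0xffffff) mc0 [mc1, mc2, mc3, mc4] bs (diagQ pQ) (diagQ pR) pF 17850 1785 = true := by decide +kernel
theorem Oc341 : trChk (appB tabs t60 0xffffff) mc0 [mc1, mc2, mc3, mc4] bs (diagQ pQ) (diagQ pR) pF 19635 1785 = true := by decide +kernel
theorem Oc342 : trChk (appB tabs t60 0xffffff) mc0 [mc1, mc2, mc3, mc4] bs (diagQ pQ) (diagQ pR) pF 21420 1785 = true := by decide +kernel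
theorem Oc343 : trChk (appB tabs t60 0xffffff) mc0 [mc1, mc2, mc3, mc4] bs (diagQ pQ) (diagQ pR) pF 23205 1785 = true := by decide +kernel
theorem Oc344 : trChk (appB tabs t60 0xffffff) mc0 [mc1, mc2, mc3, mc4] bs (diagQ pQ) (diagQ pR) pF 24990 1785 = true := by decide +kernel
theorem Oc345 : trChk (appB tabs t60 0xffffff) mc0 [mc1, mc2, mc3, mc4] bs (diagQ pQ) (diagQ pR) pF 26775 1785 = true := by decide +kernel
theorem Oc346 : trChk (appB tabs t60 0xffffff) mc0 [mc1, mc2, mc3, mc4] bs (diagQ pQ) (diagQ pR) pF 28560 1785 = true := by decide +kernel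
theorem Oc347 : trChk (appB tabs t60 0xffffff) mc0 [mc1, mc2, mc3, mc4] bs (diagQ pQ) (diagQ pR) pF 30345 1785 = true := by decide +kernel
theorem Oc348 : trChk (appB tabs t60 0xffffff) mc0 [mc1, mc2, mc3, mc4] bs (diagQ pQ) (diagQ pR) pF 32130 1785 = true := by decide +kernel
theorem Oc349 : trChk (appB tabs t60 0xffffff) mc0 [mc1, mc2, mc3, mc4] bs (diagQ pQ) (diagQ pR) pF 33915 1785 = true := by decide +kernel
theorem Oc350 : trChk (appB tabs t60 0xffffff) mc0 [mc1, mc2, mc3, mc4] bs (diagQ pQ) (diagQ pR) pF 35700 1785 = true := by decide +kernel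
theorem Oc351 : trChk (appB tabs t60 0xffffff) mc0 [mc1, mc2, mc3, mc4] bs (diagQ pQ) (diagQ pR) pF 37485 1785 = true := by decide +kernel

end Cfsg.Agent.CG.Co1
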