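import Cfsg.Agent.Lib.Grp.Co1.ODefs

set_option autoImplicit false
set_option maxRecDepth 100000
set_option Elab.async false
set_option linter.unusedSectionVars false

namespace Cfsg.Agent.CG.Co1

theorem Oc352 : trChk (appB tabs t60 0xffffff) mc0 [mc1, mc2, mc3, mc4] bs (diagQ pQ) (diagQ pR) pF 39270 1785 = true := by decide +kernel
theorem Oc353 : trChk (appB tabs t60 0xffffff) mc0 [mc1, mc2, mc3, mc4] bs (diagQ pQ) (diagQ pR) pF 41055 1785 = true := by decide +kernel
theorem Oc354 : trChk (appB tabs t60 0xffffff) mc0 [mc1, mc2, mc3, mc4] bs (diagQ pQ) (diagQ pR) pF 42840 1785 = true := by decide +kernel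
theorem Oc355 : trChk (appB tabs t60 0xffffff) mc0 [mc1, mc2, mc3, mc4] bs (diagQ pQ) (diagQ pR) pF 44625 1785 = true := by decide +kernel
theorem Oc356 : trChk (appB tabs t60 0xffffff) mc0 [mc1, mc2, mc3, mc4] bs (diagQ pQ) (diagQ pR) pF 46410 1785 = true := by decide +kernel
theorem Oc357 : trChk (appB tabs t60 0xffffff) mc0 [mc1, mc2, mc3, mc4] bs (diagQ pQ) (diagQ pR) pF 48195 1785 = true := by decide +kernel
theorem Oc358 : trChk (appB tabs t60 0xffffff) mc0 [mc1, mc2, mc3, mc4] bs (diagQ pQ) (diagQ pR) pF 49980 1785 = true := by decide +kernel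
theorem Oc359 : trChk (appB tabs t60 0xffffff) mc0 [mc1, mc2, mc3, mc4] bs (diagQ pQ) (diagQ pR) pF 51765 1785 = true := by decide +kernel
theorem Oc360 : trChk (appB tabs t60 0xffffff) mc0 [mc1, mc2, mc3, mc4] bs (diagQ pQ) (diagQ pR) pF 53550 1785 = true := by decide +kernel
theorem Oc361 : trChk (appB tabs t60 0xffffff) mc0 [mc1, mc2, mc3, mc4] bs (diagQ pQ) (diagQ pR) pF 55335 1785 = true := by decide +kernel
theorem Oc362 : trChk (appB tabs t60 0xffffff) mc0 [mc1, mc2, mc3, mc4] bs (diagQ pQ) (diagQ pR) pF 57120 1785 = true := by decide +kernel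
theorem Oc363 : trChk (appB tabs t60 0xffffff) mc0 [mc1, mc2, mc3, mc4] bs (diagQ pQ) (diagQ pR) pF 58905 1785 = true := by decide +kernel
theorem Oc364 : trChk (appB tabs t60 0xffffff) mc0 [mc1, mc2, mc3, mc4] bs (diagQ pQ) (diagQ pR) pF 60690 1785 = true := by decide +kernel
theorem Oc365 : trChk (appB tabs t60 0xffffff) mc0 [mc1, mc2, mc3, mc4] bs (diagQ pQ) (diagQ pR) pF 62475 1785 = true := by decide +kernel
theorem Oc366 : trChk (appB tabs t60 0xffffff) mc0 [mc1, mc2, mc3, mc4] bs (diagQ pQ) (diagQ pR) pF 64260 1785 = true := by decide +kernel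
theorem Oc367 : trChk (appB tabs t60 0xffffff) mc0 [mc1, mc2, mc3, mc4] bs (diagQ pQ) (diagQ pR) pF 66045 1785 = true := by decide +kernel
theorem Oc368 : trChk (appB tabs t60 0xffffff) mc0 [mc1, mc2, mc3, mc4] bs (diagQ pQ) (diagQ pR) pF 67830 1785 = true := by decide +kernel
theorem Oc369 : trChk (appB tabs t60 0xffffff) mc0 [mc1, mc2, mc3, mc4] bs (diagQ pQ) (diagQ pR) pF 69615 1785 = true := by decide +kernel
theorem Oc370 : trChk (appB tabs t60 0xffffff) mc0 [mc1, mc2, mc3, mc4] bs (diagQ pQ) (diagQ pR) pF 71400 1785 = true := by decide +kernel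
theorem Oc371 : trChk (appB tabs t60 0xffffff) mc0 [mc1, mc2, mc3, mc4] bs (diagQ pQ) (diagQ pR) pF 73185 1785 = true := by decide +kernel
theorem Oc372 : trChk (appB tabs t60 0xffffff) mc0 [mc1, mc2, mc3, mc4] bs (diagQ pQ) (diagQ pR) pF 74970 1785 = true := by decide +kernel
theorem Oc373 : trChk (appB tabs t60 0xffffff) mc0 [mc1, mc2, mc3, mc4] bs (diagQ pQ) (diagQ pR) pF 76755 1785 = true := by decide +kernel
theorem Oc374 : trChk (appB tabs t60 0xffffff) mc0 [mc1, mc2, mc3, mc4] bs (diagQ pQ) (diagQ pR) pF 78540 1785 = true := by decide +kernel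
theorem Oc375 : trChk (appB tabs t60 0xffffff) mc0 [mc1, mc2, mc3, mc4] bs (diagQ pQ) (diagQ pR) pF 80325 1785 = true := by decide +kernel
theorem Oc376 : trChk (appB tabs t60 0xffffff) mc0 [mc1, mc2, mc3, mc4] bs (diagQ pQ) (diagQ pR) pF 82110 1785 = true := by decide +kernel

end Cfsg.Agent.CG.Co1
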