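import Cfsg.Agent.Lib.Grp.Co1.ODefs

set_option autoImplicit false
set_option maxRecDepth 100000
set_option Elab.async false
set_option linter.unusedSectionVars false

namespace Cfsg.Agent.CG.Co1

theorem Oc377 : trChk (appB tabs t60 0xffffff) mc0 [mc1, mc2, mc3, mc4] bs (diagQ pQ) (diagQ pR) pF 83895 1785 = true := by decide +kernel
theorem Oc378 : trChk (appB tabs t60 0xffffff) mc0 [mc1, mc2, mc3, mc4] bs (diagQ pQ) (diagQ pR) pF 85680 1785 = true := by decide +kernel
theorem Oc379 : trChk (appB tabs t60 0xffffff) mc0 [mc1, mc2, mc3, mc4] bs (diagQ pQ) (diagQ pR) pF 87465 1785 = true := by decide +kernel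
theorem Oc380 : trChk (appB tabs t60 0xffffff) mc0 [mc1, mc2, mc3, mc4] bs (diagQ pQ) (diagQ pR) pF 89250 1785 = true := by decide +kernel
theorem Oc381 : trChk (appB tabs t60 0xffffff) mc0 [mc1, mc2, mc3, mc4] bs (diagQ pQ) (diagQ pR) pF 91035 1785 = true := by decide +kernel
theorem Oc382 : trChk (appB tabs t60 0xffffff) mc0 [mc1, mc2, mc3, mc4] bs (diagQ pQ) (diagQ pR) pF 92820 1785 = true := by decide +kernel
theorem Oc383 : trChk (appB tabs t60 0xffffff) mc0 [mc1, mc2, mc3, mc4] bs (diagQ pQ) (diagQ pR) pF 94605 1785 = true := by decide +kernel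
theorem Oc384 : trChk (appB tabs t60 0xffffff) mc0 [mc1, mc2, mc3, mc4] bs (diagQ pQ) (diagQ pR) pF 96390 1785 = true := by decide +kernel
theorem Oc385 : trChk (appB tabs t60 0xffffff) mc0 [mc1, mc2, mc3, mc4] bs (diagQ pQ) (diagQ pR) pF 98175 105 = true := by decide +kernel
theorem Oc386 : classChk (appB tabs t60 0xffffff) bs 13 3 7 [8,14,8,14] pS pF pU = true := by decide +kernel
theorem Oc387 : powChk (appB tabs t60 0xffffff) bs 11 23 aK nK = true := by decide +kernel
theorem Oc388 : en.chk (appB tabs t60 0xffffff) (tst0 off 1562280 tst) 0 1928 0 30365554942982487360 = true := by decide +kernel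
theorem Oc389 : en.chk (appB tabs t60 0xffffff) (tst0 off 1562280 tst) 1928 1928 30365554942982487360 67912061572747444296 = true := by decide +kernel
theorem Oc390 : en.chk (appB tabs t60 0xffffff) (tst0 off 1562280 tst) 3856 1928 67912061572747444296 95041747998588662232 = true := by decide +kernel
theorem Oc391 : en.chk (appB tabs t60 0xffffff) (tst0 off 1562280 tst) 5784 1928 95041747998588662232 99230077606738263408 = true := by decide +kernel
theorem Oc392 : en.chk (appB tabs t60 0xffffff) (tst0 off 1562280 tst) 7712 1928 99230077606738263408 102134921636736517272 = true := by decide +kernel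
theorem Oc393 : en.chk (appB tabs t60 0xffffff) (tst0 off 1562280 tst) 9640 1928 102134921636736517272 104350674528373205544 = true := by decide +kernel
theorem Oc394 : en.chk (appB tabs t60 0xffffff) (tst0 off 1562280 tst) 11568 1928 104350674528373205544 106107063704325090144 = true := by decide +kernel
theorem Oc395 : en.chk (appB tabs t60 0xffffff) (tst0 off 1562280 tst) 13496 1928 106107063704325090144 118577537549592672456 = true := by decide +kernel
theorem Oc396 : en.chk (appB tabs t60 0xffffff) (tst0 off 1562280 tst) 15424 1928 118577537549592672456 122259253604894519496 = true := by decide +kernel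
theorem Oc397 : en.chk (appB tabs t60 0xffffff) (tst0 off 1562280 tst) 17352 1928 122259253604894519496 126096302194476603624 = true := by decide +kernel
theorem Oc398 : en.chk (appB tabs t60 0xffffff) (tst0 off 1562280 tst) 19280 1928 126096302194476603624 132257225251796215824 = true := by decide +kernel
theorem Oc399 : en.chk (appB tabs t60 0xffffff) (tst0 off 1562280 tst) 21208 1928 132257225251796215824 138742430292989074872 = true := by decide +kernel
theorem Oc400 : en.chk (appB tabs t60 0xffffff) (tst0 off 1562280 tst) 23136 1928 138742430292989074872 147666292327104575856 = true := by decide +kernel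
theorem Oc401 : en.chk (appB tabs t60 0xffffff) (tst0 off 1562280 tst) 25064 1928 147666292327104575856 152651776145014521048 = true := by decide +kernel
theorem Oc402 : en.chk (appB tabs t60 0xffffff) (tst0 off 1562280 tst) 26992 1928 152651776145014521048 175282372158112301472 = true := by decide +kernel
theorem Oc403 : en.chk (appB tabs t60 0xffffff) (tst0 off 1562280 tst) 28920 1928 175282372158112301472 213585480965207325240 = true := by decide +kernel

end Cfsg.Agent.CG.Co1
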