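import Cfsg.Agent.Lib.Grp.Co1.ODefs

set_option autoImplicit false
set_option maxRecDepth 100000
set_option Elab.async false
set_option linter.unusedSectionVars false

namespace Cfsg.Agent.CG.Co1

theorem Oc404 : en.chk (appB tabs t60 0xffffff) (tst0 off 1562280 tst) 30848 1928 213585480965207325240 237952224834665768976 = true := by decide +kernel
theorem Oc405 : en.chk (appB tabs t60 0xffffff) (tst0 off 1562280 tst) 32776 1928 237952224834665768976 260812490349989832024 = true := by decide +kernel
theorem Oc406 : en.chk (appB tabs t60 0xffffff) (tst0 off 1562280 tst) 34704 1928 260812490349989832024 265034592320805305616 = true := by decide +kernel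
theorem Oc407 : en.chk (appB tabs t60 0xffffff) (tst0 off 1562280 tst) 36632 1928 265034592320805305616 273087051121904375136 = true := by decide +kernel
theorem Oc408 : en.chk (appB tabs t60 0xffffff) (tst0 off 1562280 tst) 38560 1928 273087051121904375136 280261294187883293376 = true := by decide +kernel
theorem Oc409 : en.chk (appB tabs t60 0xffffff) (tst0 off 1562280 tst) 40488 1928 280261294187883293376 281997395646922725744 = true := by decide +kernel
theorem Oc410 : en.chk (appB tabs t60 0xffffff) (tst0 off 1562280 tst) 42416 1928 281997395646922725744 283476837149581252848 = true := by decide +kernel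
theorem Oc411 : en.chk (appB tabs t60 0xffffff) (tst0 off 1562280 tst) 44344 1928 283476837149581252848 300203224001963943504 = true := by decide +kernel
theorem Oc412 : en.chk (appB tabs t60 0xffffff) (tst0 off 1562280 tst) 46272 1928 300203224001963943504 355928524893068643576 = true := by decide +kernel
theorem Oc413 : en.chk (appB tabs t60 0xffffff) (tst0 off 1562280 tst) 48200 1928 355928524893068643576 376518974328691393896 = true := by decide +kernel
theorem Oc414 : en.chk (appB tabs t60 0xffffff) (tst0 off 1562280 tst) 50128 1928 376518974328691393896 382450201474565557848 = true := by decide +kernel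
theorem Oc415 : en.chk (appB tabs t60 0xffffff) (tst0 off 1562280 tst) 52056 1928 382450201474565557848 385760349681026613264 = true := by decide +kernel
theorem Oc416 : en.chk (appB tabs t60 0xffffff) (tst0 off 1562280 tst) 53984 1928 385760349681026613264 394461295291864116240 = true := by decide +kernel
theorem Oc417 : en.chk (appB tabs t60 0xffffff) (tst0 off 1562280 tst) 55912 1928 394461295291864116240 400406052256750003272 = true := by decide +kernel
theorem Oc418 : en.chk (appB tabs t60 0xffffff) (tst0 off 1562280 tst) 57840 1928 400406052256750003272 402783951991479161904 = true := by decide +kernel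
theorem Oc419 : en.chk (appB tabs t60 0xffffff) (tst0 off 1562280 tst) 59768 1928 402783951991479161904 411755136358048465896 = true := by decide +kernel
theorem Oc420 : en.chk (appB tabs t60 0xffffff) (tst0 off 1562280 tst) 61696 1928 411755136358048465896 414045212682442016760 = true := by decide +kernel
theorem Oc421 : en.chk (appB tabs t60 0xffffff) (tst0 off 1562280 tst) 63624 1928 414045212682442016760 416943282314214107544 = true := by decide +kernel
theorem Oc422 : en.chk (appB tabs t60 0xffffff) (tst0 off 1562280 tst) 65552 1928 416943282314214107544 418226789797099422768 = true := by decide +kernel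
theorem Oc423 : en.chk (appB tabs t60 0xffffff) (tst0 off 1562280 tst) 67480 1928 418226789797099422768 419753514402118800456 = true := by decide +kernel
theorem Oc424 : en.chk (appB tabs t60 0xffffff) (tst0 off 1562280 tst) 69408 1928 419753514402118800456 424509338316247839384 = true := by decide +kernel
theorem Oc425 : en.chk (appB tabs t60 0xffffff) (tst0 off 1562280 tst) 71336 1928 424509338316247839384 426596732664068594400 = true := by decide +kernel
theorem Oc426 : en.chk (appB tabs t60 0xffffff) (tst0 off 1562280 tst) 73264 1928 426596732664068594400 430075761640374159600 = true := by decide +kernel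
theorem Oc427 : en.chk (appB tabs t60 0xffffff) (tst0 off 1562280 tst) 75192 1928 430075761640374159600 432129391860188076768 = true := by decide +kernel
theorem Oc428 : en.chk (appB tabs t60 0xffffff) (tst0 off 1562280 tst) 77120 1928 432129391860188076768 433162988242620202224 = true := by decide +kernel

end Cfsg.Agent.CG.Co1
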