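import Cfsg.Agent.Lib.Grp.Co1.ODefs

set_option autoImplicit false
set_option maxRecDepth 100000
set_option Elab.async false
set_option linter.unusedSectionVars false

namespace Cfsg.Agent.CG.Co1

theorem Oc429 : en.chk (appB tabs t60 0xffffff) (tst0 off 1562280 tst) 79048 1928 433162988242620202224 434061473146436605200 = true := by decide +kernel
theorem Oc430 : en.chk (appB tabs t60 0xffffff) (tst0 off 1562280 tst) 80976 1928 434061473146436605200 434736977237093802408 = true := by decide +kernel
theorem Oc431 : en.chk (appB tabs t60 0xffffff) (tst0 off 1562280 tst) 82904 1928 434736977237093802408 442080105917238058344 = true := by decide +kernel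
theorem Oc432 : en.chk (appB tabs t60 0xffffff) (tst0 off 1562280 tst) 84832 1928 442080105917238058344 443397422198073986088 = true := by decide +kernel
theorem Oc433 : en.chk (appB tabs t60 0xffffff) (tst0 off 1562280 tst) 86760 1928 443397422198073986088 444991686119182571280 = true := by decide +kernel
theorem Oc434 : en.chk (appB tabs t60 0xffffff) (tst0 off 1562280 tst) 88688 1928 444991686119182571280 447781657376536094832 = true := by decide +kernel
theorem Oc435 : en.chk (appB tabs t60 0xffffff) (tst0 off 1562280 tst) 90616 1928 447781657376536094832 450071740525496786616 = true := by decide +kernel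
theorem Oc436 : en.chk (appB tabs t60 0xffffff) (tst0 off 1562280 tst) 92544 1928 450071740525496786616 452821187603145988392 = true := by decide +kernel
theorem Oc437 : en.chk (appB tabs t60 0xffffff) (tst0 off 1562280 tst) 94472 1928 452821187603145988392 466264433003021841624 = true := by decide +kernel
theorem Oc438 : en.chk (appB tabs t60 0xffffff) (tst0 off 1562280 tst) 96400 1928 466264433003021841624 489624602397050525664 = true := by decide +kernel
theorem Oc439 : en.chk (appB tabs t60 0xffffff) (tst0 off 1562280 tst) 98328 1928 489624602397050525664 518186453917703650656 = true := by decide +kernel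
theorem Oc440 : en.chk (appB tabs t60 0xffffff) (tst0 off 1562280 tst) 100256 1928 518186453917703650656 519368656159048776000 = true := by decide +kernel
theorem Oc441 : en.chk (appB tabs t60 0xffffff) (tst0 off 1562280 tst) 102184 1928 519368656159048776000 521685723257701401120 = true := by decide +kernel
theorem Oc442 : en.chk (appB tabs t60 0xffffff) (tst0 off 1562280 tst) 104112 1928 521685723257701401120 523867747278449974248 = true := by decide +kernel
theorem Oc443 : en.chk (appB tabs t60 0xffffff) (tst0 off 1562280 tst) 106040 1928 523867747278449974248 525644390109272053992 = true := by decide +kernel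
theorem Oc444 : en.chk (appB tabs t60 0xffffff) (tst0 off 1562280 tst) 107968 1928 525644390109272053992 528772152294762561048 = true := by decide +kernel
theorem Oc445 : en.chk (appB tabs t60 0xffffff) (tst0 off 1562280 tst) 109896 1928 528772152294762561048 531095998379878607640 = true := by decide +kernel
theorem Oc446 : en.chk (appB tabs t60 0xffffff) (tst0 off 1562280 tst) 111824 1928 531095998379878607640 532906445732071058520 = true := by decide +kernel
theorem Oc447 : en.chk (appB tabs t60 0xffffff) (tst0 off 1562280 tst) 113752 1928 532906445732071058520 538851225472629971544 = true := by decide +kernel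
theorem Oc448 : en.chk (appB tabs t60 0xffffff) (tst0 off 1562280 tst) 115680 1928 538851225472629971544 543775879785497015160 = true := by decide +kernel
theorem Oc449 : en.chk (appB tabs t60 0xffffff) (tst0 off 1562280 tst) 117608 1928 543775879785497015160 546471298677321102816 = true := by decide +kernel
theorem Oc450 : en.chk (appB tabs t60 0xffffff) (tst0 off 1562280 tst) 119536 1928 546471298677321102816 548680302870468993144 = true := by decide +kernel
theorem Oc451 : en.chk (appB tabs t60 0xffffff) (tst0 off 1562280 tst) 121464 1928 548680302870468993144 552625468528047359328 = true := by decide +kernel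
theorem Oc452 : en.chk (appB tabs t60 0xffffff) (tst0 off 1562280 tst) 123392 1928 552625468528047359328 554604798515174703696 = true := by decide +kernel
theorem Oc453 : en.chk (appB tabs t60 0xffffff) (tst0 off 1562280 tst) 125320 1928 554604798515174703696 564373104175817247960 = true := by decide +kernel

end Cfsg.Agent.CG.Co1
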