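import Cfsg.Agent.Lib.Grp.Co1.ODefs

set_option autoImplicit false
set_option maxRecDepth 100000
set_option Elab.async false
set_option linter.unusedSectionVars false

namespace Cfsg.Agent.CG.Co1

theorem Oc454 : en.chk (appB tabs t60 0xffffff) (tst0 off 1562280 tst) 127248 1928 564373104175817247960 582903165470772248760 = true := by decide +kernel
theorem Oc455 : en.chk (appB tabs t60 0xffffff) (tst0 off 1562280 tst) 129176 1928 582903165470772248760 617835341878936870008 = true := by decide +kernel
theorem Oc456 : en.chk (appB tabs t60 0xffffff) (tst0 off 1562280 tst) 131104 1928 617835341878936870008 646444446253033054944 = true := by decide +kernel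
theorem Oc457 : en.chk (appB tabs t60 0xffffff) (tst0 off 1562280 tst) 133032 1368 646444446253033054944 662941163032627276273 = true := by decide +kernel
theorem Oc458 : en1.chk (appB tabs t60 0xffffff) (tst1 off 1562280 23 tst) 0 0 0 0 = true := by decide +kernel
theorem Oc459 : commAll (appB tabs t60 0xffffff) bs 13 cc = true := by decide +kernel
theorem Oc460 : offChk 24 (appB tabs t60 0xffffff) 11 23 off 0 20000 = true := by decide +kernel
theorem Oc461 : offChk 24 (appB tabs t60 0xffffff) 11 23 off 20000 20000 = true := by decide +kernel
theorem Oc462 : offChk 24 (appB tabs t60 0xffffff) 11 23 off 40000 20000 = true := by decide +kernel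
theorem Oc463 : offChk 24 (appB tabs t60 0xffffff) 11 23 off 60000 20000 = true := by decide +kernel
theorem Oc464 : offChk 24 (appB tabs t60 0xffffff) 11 23 off 80000 18280 = true := by decide +kernel
theorem Oc465 : relChk (appB tabs t60 0xffffff) bs 11 13 rT = true := by decide +kernel

end Cfsg.Agent.CG.Co1
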