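import Cfsg.Agent.Lib.Grp.Co1.OD6
import Cfsg.Agent.Lib.Grp.Co1.Defs

set_option autoImplicit false
set_option maxRecDepth 100000
set_option Elab.async false
set_option linter.unusedSectionVars false

namespace Cfsg.Agent.CG.Co1

noncomputable def cc0c : Tr ℕ := (.node (.node (.node (.node (.node (.node (.leaf cc0c_0) (.leaf cc0c_32)) (.leaf cc0c_16)) (.node (.leaf cc0c_8) (.leaf cc0c_24))) (.node (.node (.leaf cc0c_4) (.leaf cc0c_20)) (.node (.leaf cc0c_12) (.leaf cc0c_28)))) (.node (.node (.node (.node (.leaf cc0c_2) (.leaf cc0c_34)) (.leaf cc0c_18)) (.node (.leaf cc0c_10) (.leaf cc0c_26))) (.node (.node (.leaf cc0c_6) (.leaf cc0c_22)) (.node (.leaf cc0c_14) (.leaf cc0c_30))))) (.node (.node (.node (.node (.node (.leaf cc0c_1) (.leaf cc0c_33)) (.leaf cc0c_17)) (.node (.leaf cc0c_9) (.leaf cc0c_25))) (.node (.node (.leaf cc0c_5) (.leaf cc0c_21)) (.node (.leaf cc0c_13) (.leaf cc0c_29)))) (.node (.node (.node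 (.node (.leaf cc0c_3) (.leaf cc0c_35)) (.leaf cc0c_19)) (.node (.leaf cc0c_11) (.leaf cc0c_27))) (.node (.node (.leaf cc0c_7) (.leaf cc0c_23)) (.node (.leaf cc0c_15) (.leaf cc0c_31))))))
noncomputable def cc0p : Tr ℕ := (.node (.node (.node (.node (.node (.leaf cc0p_0) (.leaf cc0p_16)) (.node (.leaf cc0p_8) (.leaf cc0p_24))) (.node (.node (.leaf cc0p_4) (.leaf cc0p_20)) (.node (.leaf cc0p_12) (.leaf cc0p_28)))) (.node (.node (.node (.leaf cc0p_2) (.leaf cc0p_18)) (.node (.leaf cc0p_10) (.leaf cc0p_26))) (.node (.node (.leaf cc0p_6) (.leaf cc0p_22)) (.leaf cc0p_14)))) (.node (.node (.node (.node (.leaf cc0p_1) (.leaf cc0p_17)) (.node (.leaf cc0p_9) (.leaf cc0p_25))) (.node (.node (.leaf cc0p_5) (.leaf cc0p_21)) (.node (.leaf cc0p_13) (.leaf cc0p_29)))) (.node (.node (.node (.leaf cc0p_3) (.leaf cc0p_19)) (.node (.leaf cc0p_11) (.leaf cc0p_27))) (.node (.node (.leaf cc0p_7) (.leaf cc0p_23)) (.leaf cc0p_15)))))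
noncomputable def cc0l : Tr ℕ := (.node (.node (.node (.node (.leaf cc0l_0) (.leaf cc0l_8)) (.leaf cc0l_4)) (.node (.node (.leaf cc0l_2) (.leaf cc0l_10)) (.leaf cc0l_6))) (.node (.node (.node (.leaf cc0l_1) (.leaf cc0l_9)) (.leaf cc0l_5)) (.node (.node (.leaf cc0l_3) (.leaf cc0l_11)) (.leaf cc0l_7))))
noncomputable def cc0i : Tr ℕ := (.node (.node (.node (.node (.leaf cc0i_0) (.leaf cc0i_8)) (.leaf cc0i_4)) (.node (.node (.leaf cc0i_2) (.leaf cc0i_10)) (.leaf cc0i_6))) (.node (.node (.node (.leaf cc0i_1) (.leaf cc0i_9)) (.leaf cc0i_5)) (.node (.node (.leaf cc0i_3) (.leaf cc0i_11)) (.leaf cc0i_7))))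
noncomputable def cc0q : Tr ℕ := (.node (.node (.node (.node (.node (.node (.leaf cc0q_0) (.leaf cc0q_32)) (.leaf cc0q_16)) (.node (.leaf cc0q_8) (.leaf cc0q_24))) (.node (.node (.leaf cc0q_4) (.leaf cc0q_20)) (.node (.leaf cc0q_12) (.leaf cc0q_28)))) (.node (.node (.node (.node (.leaf cc0q_2) (.leaf cc0q_34)) (.leaf cc0q_18)) (.node (.leaf cc0q_10) (.leaf cc0q_26))) (.node (.node (.leaf cc0q_6) (.leaf cc0q_22)) (.node (.leaf cc0q_14) (.leaf cc0q_30))))) (.node (.node (.node (.node (.node (.leaf cc0q_1) (.leaf cc0q_33)) (.leaf cc0q_17)) (.node (.leaf cc0q_9) (.leaf cc0q_25))) (.node (.node (.leaf cc0q_5) (.leaf cc0q_21)) (.node (.leaf cc0q_13) (.leaf cc0q_29)))) (.node (.node (.node (.node (.leaf cc0q_3) (.leaf cc0q_35)) (.leaf cc0q_19)) (.node (.leaf cc0q_11) (.leaf cc0q_27))) (.node (.node (.leaf cc0q_7) (.leaf cc0q_23)) (.node (.leaf cc0q_15) (.leaf cc0q_31))))))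
noncomputable def cc1c : Tr ℕ := (.node (.node (.node (.leaf cc1c_0) (.leaf cc1c_4)) (.node (.leaf cc1c_2) (.leaf cc1c_6))) (.node (.node (.leaf cc1c_1) (.leaf cc1c_5)) (.node (.leaf cc1c_3) (.leaf cc1c_7))))
noncomputable def cc1p : Tr ℕ := (.node (.node (.node (.leaf cc1p_0) (.leaf cc1p_4)) (.leaf cc1p_2)) (.node (.node (.leaf cc1p_1) (.leaf cc1p_5)) (.leaf cc1p_3)))
noncomputable def cc1l : Tr ℕ := (.node (.node (.leaf cc1l_0) (.leaf cc1l_2)) (.leaf cc1l_1))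
noncomputable def cc1i : Tr ℕ := (.node (.node (.leaf cc1i_0) (.leaf cc1i_2)) (.leaf cc1i_1))
noncomputable def cc1q : Tr ℕ := (.node (.node (.node (.node (.node (.node (.leaf cc1q_0) (.leaf cc1q_32)) (.leaf cc1q_16)) (.node (.leaf cc1q_8) (.leaf cc1q_24))) (.node (.node (.leaf cc1q_4) (.leaf cc1q_20)) (.node (.leaf cc1q_12) (.leaf cc1q_28)))) (.node (.node (.node (.node (.leaf cc1q_2) (.leaf cc1q_34)) (.leaf cc1q_18)) (.node (.leaf cc1q_10) (.leaf cc1q_26))) (.node (.node (.leaf cc1q_6) (.leaf cc1q_22)) (.node (.leaf cc1q_14) (.leaf cc1q_30))))) (.node (.node (.node (.node (.node (.leaf cc1q_1) (.leaf cc1q_33)) (.leaf cc1q_17)) (.node (.leaf cc1q_9) (.leaf cc1q_25))) (.node (.node (.leaf cc1q_5) (.leaf cc1q_21)) (.node (.leaf cc1q_13) (.leaf cc1q_29)))) (.node (.node (.node (.node (.leaf cc1q_3) (.leaf cc1q_35)) (.leaf cc1q_19)) (.node (.leaf cc1q_11) (.leaf cc1q_27))) (.node (.node (.leaf cc1q_7) (.leaf cc1q_23))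 (.node (.leaf cc1q_15) (.leaf cc1q_31))))))
noncomputable def cc2q : Tr ℕ := (.node (.node (.node (.node (.node (.node (.leaf cc2q_0) (.leaf cc2q_32)) (.leaf cc2q_16)) (.node (.leaf cc2q_8) (.leaf cc2q_24))) (.node (.node (.leaf cc2q_4) (.leaf cc2q_20)) (.node (.leaf cc2q_12) (.leaf cc2q_28)))) (.node (.node (.node (.node (.leaf cc2q_2) (.leaf cc2q_34)) (.leaf cc2q_18)) (.node (.leaf cc2q_10) (.leaf cc2q_26))) (.node (.node (.leaf cc2q_6) (.leaf cc2q_22)) (.node (.leaf cc2q_14) (.leaf cc2q_30))))) (.node (.node (.node (.node (.node (.leaf cc2q_1) (.leaf cc2q_33)) (.leaf cc2q_17)) (.node (.leaf cc2q_9) (.leaf cc2q_25))) (.node (.node (.leaf cc2q_5) (.leaf cc2q_21)) (.node (.leaf cc2q_13) (.leaf cc2q_29)))) (.node (.node (.node (.node (.leaf cc2q_3) (.leaf cc2q_35)) (.leaf cc2q_19)) (.node (.leaf cc2q_11) (.leaf cc2q_27))) (.node (.node (.leaf cc2q_7) (.leaf cc2q_23)) (.node (.leaf cc2q_15) (.leaf cc2q_31))))))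
noncomputable def offT : Tr ℕ := (.node (.node (.node (.node (.node (.node (.leaf offT_0) (.leaf offT_32)) (.leaf offT_16)) (.node (.leaf offT_8) (.leaf offT_24))) (.node (.node (.leaf offT_4) (.leaf offT_20)) (.node (.leaf offT_12) (.leaf offT_28)))) (.node (.node (.node (.node (.leaf offT_2) (.leaf offT_34)) (.leaf offT_18)) (.node (.leaf offT_10) (.leaf offT_26))) (.node (.node (.leaf offT_6) (.leaf offT_22)) (.node (.leaf offT_14) (.leaf offT_30))))) (.node (.node (.node (.node (.node (.leaf offT_1) (.leaf offT_33)) (.leaf offT_17)) (.node (.leaf offT_9) (.leaf offT_25))) (.node (.node (.leaf offT_5) (.leaf offT_21)) (.node (.leaf offT_13) (.leaf offT_29)))) (.node (.node (.node (.node (.leaf offT_3) (.leaf offT_35)) (.leaf offT_19)) (.node (.leaf offT_11) (.leaf offT_27))) (.node (.node (.leaf offT_7) (.leaf offT_23)) (.node (.leaf offT_15) (.leaf offT_31))))))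
noncomputable def cc0 : Lvl := ⟨0, [48,49,50,51], 98280,
  fun i => lk2 cc0c 0xffffff (Nat.mul 24 i), fun i => lk2 cc0p 0xfffff (Nat.mul 20 i),
  fun i => lk2 cc0l 0xff (Nat.mul 8 i), fun i => lk2 cc0i 0xff (Nat.mul 8 i), fun x => lk2 cc0q 0xffffff x, 15⟩
noncomputable def cc1 : Lvl := ⟨25680, [52,53,54,55], 20736,
  fun i => lk2 cc1c 0xffffff (Nat.mul 24 i), fun i => lk2 cc1p 0xffff (Nat.mul 16 i),
  fun i => lk2 cc1l 0xff (Nat.mul 8 i), fun i => lk2 cc1i 0xff (Nat.mul 8 i), fun x => lk2 cc1q 0xffffff x, 11⟩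
noncomputable def cc2 : Lvl := ⟨25824, [56,57,58,59], 660,
  fun i => look 0xffffff cc2c (Nat.mul 24 i), fun i => look 0xfff cc2p (Nat.mul 12 i),
  fun i => look 0xff cc2l (Nat.mul 8 i), fun i => look 0xff cc2i (Nat.mul 8 i), fun x => lk2 cc2q 0xffffff x, 7⟩
noncomputable def cc : List Lvl := [cc0, cc1, cc2]
noncomputable def pS : List ℕ := [5]
noncomputable def pQ : List (List ℕ) := [[],
  [5],
  [5,5],
  [5,5,5,5,5,5],
  [5,5,5,5,5,5,5]]
noncomputable def pR : List (List ℕ) := [[5]]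
noncomputable def pF : List (List ℕ) := [[],
  [18,16,16,18,20,16,26,21,21,23,23,21,21,27,29,32,30,27,36,37,40,40,34,44,41],
  [17,11,19,15,15,12,24,22,22,26,26,23,21,32,32,28,31,27,29,34,39,35,35,35,45,43,41],
  [16,19,11,19,13,12,22,24,24,26,26,21,29,29,31,30,31,36,39,38,36,34,45,41,41],
  [19,19,17,14,12,23,21,21,23,25,22,27,31,30,31,27,29,27,38,40,35,34,41],
  [17,16,20,14,18,11,25,22,26,22,22,24,21,21,30,27,31,27,30,27,29,34,35,35,39,35,45,41],
  [14,11,13,18,11,25,21,23,23,22,26,21,28,29,31,29,28,31,27,36,40,38,40,43],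
  [15,13,12,14,12,12,24,25,21,26,24,21,27,32,29,27,27,40,37,36,45,43,41],
  [20,16,18,18,18,12,24,22,26,24,21,24,22,31,28,30,28,28,38,34,39,34,45,44,41],
  [15,18,15,15,20,21,24,26,26,23,23,21,30,28,28,29,31,28,38,36,39,35,35,44],
  [15,18,12,14,20,25,23,25,24,26,31,27,30,32,29,27,27,36,36,39,34,45,43],
  [11,15,17,19,14,26,24,24,26,23,22,23,27,27,27,30,31,29,39,35,33,36,45,43],
  [17,15,12,19,13,16,26,22,24,26,21,23,22,28,28,29,29,32,37,35,38,39,34,45,43,41],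
  [17,12,20,15,17,23,21,25,25,21,21,25,32,28,30,30,31,28,39,34,36,34,38,44],
  [11,17,16,14,12,21,25,23,22,24,25,30,27,30,28,29,36,40,33,35,33,45,41,41],
  [18,18,15,19,19,16,21,23,21,25,23,26,26,30,32,27,30,31,28,33,33,36,36,41,41],
  [16,18,19,11,13,11,26,26,21,24,21,21,23,21,31,28,31,27,27,32,38,33,39,43],
  [17,14,12,14,11,23,23,26,24,24,21,29,29,32,27,31,31,35,35,39,36,33,45,42],
  [20,17,15,17,20,13,24,21,25,25,25,25,32,30,28,30,30,30,40,37,40,36,43],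
  [15,18,12,19,18,15,22,22,25,24,24,22,31,30,32,27,27,29,36,37,39,33,42],
  [14,18,15,15,12,12,22,25,24,25,22,23,21,29,31,28,28,28,30,35,33,40,35,45,41],
  [15,15,17,17,15,13,26,21,26,21,23,25,31,29,32,32,27,32,39,34,36,40,45,44,41],
  [20,14,12,16,18,12,21,23,25,23,22,26,21,32,32,28,29,37,36,39,36,34,45,44,41],
  [15,18,20,20,16,12,21,23,22,26,26,22,29,31,31,28,28,28,34,39,39,35,41],
  [16,17,16,16,12,23,22,26,21,21,25,29,32,28,31,30,28,29,34,35,37,36,33,43],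
  [15,19,17,19,13,16,26,24,21,21,24,25,30,27,27,30,27,29,40,33,36,41],
  [20,12,20,13,15,11,25,25,22,24,24,26,22,31,27,29,28,30,27,29,39,36,37,33,45,43],
  [13,12,16,16,19,16,11,26,24,26,26,24,24,24,28,30,30,28,40,38,39,35,43],
  [19,18,15,13,18,15,23,21,25,23,23,22,22,31,27,30,28,30,31,36,36,40,35,35,44],
  [19,15,12,19,15,15,23,21,24,26,24,25,31,27,29,32,28,31,39,36,37,36,43],
  [15,18,18,16,13,15,25,22,23,21,21,25,22,30,31,28,31,27,30,37,36,33,37,45,42],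
  [19,17,12,12,20,18,21,24,21,24,26,24,26,29,27,30,28,31,28,36,33,33,38,41],
  [16,20,13,12,12,12,23,22,24,21,26,23,30,31,29,27,31,27,35,38,35,37,45,44,41],
  [14,19,13,12,19,17,26,23,26,24,24,21,32,29,29,29,28,29,27,38,40,33,36,36,44,41],
  [16,14,20,17,20,13,21,26,26,23,22,25,23,21,27,30,31,28,31,30,36,33,40,38,33,44],
  [15,19,19,11,11,13,26,22,26,26,23,26,21,21,29,28,28,31,29,27,37,40,34,45,41],
  [12,14,18,15,13,12,21,26,26,26,24,21,21,32,29,32,30,30,30,27,40,34,38,36,44,41],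
  [20,11,19,17,17,11,26,22,22,26,26,26,31,31,30,32,29,31,27,37,34,38,36,42],
  [14,18,15,20,15,23,22,23,23,22,22,25,21,29,28,30,31,28,30,27,38,36,34,37,43],
  [11,13,20,20,16,12,24,21,21,25,23,21,29,27,27,31,28,32,28,39,34,37,40,33,45],
  [18,18,18,18,18,15,26,26,26,23,22,30,30,32,30,28,29,28,39,38,35,45,44,41],
  [13,12,14,20,11,15,22,26,24,24,21,21,21,29,28,31,29,31,28,40,37,34,35],
  [13,16,19,14,20,11,21,24,21,21,24,30,32,27,32,29,31,33,37,40,37,45,41,41],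
  [18,20,11,11,19,19,26,21,25,25,24,21,26,32,30,28,29,27,29,33,35,39,35,33,43,41],
  [18,13,20,14,11,21,23,22,25,21,25,23,28,31,27,31,33,37,35,45,43],
  [16,12,14,20,14,26,24,26,24,25,25,27,31,28,31,27,32,33,40,35,33,44,41],
  [19,11,11,17,11,25,21,25,24,22,25,28,31,27,29,28,37,35,39,36,41,41],
  [17,15,15,14,18,14,24,21,25,21,24,26,22,29,32,28,29,32,32,27,39,35,40,40,45,43,41],
  [16,18,19,11,15,11,24,26,26,23,23,23,23,30,32,32,32,27,27,27,34,37,34,36,45,41,41],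
  [18,19,15,18,12,25,23,22,24,21,25,21,30,30,27,32,30,32,28,40,34,45,43],
  [20,12,19,18,15,13,24,22,25,21,26,24,22,32,30,32,30,27,31,31,40,34,37,45,44],
  [16,14,20,18,19,11,24,21,21,24,21,23,25,28,30,27,27,29,27,33,39,33,33,45,42],
  [13,20,16,19,14,19,22,22,23,21,24,25,21,27,32,29,31,28,30,38,39,35,35,44],
  [18,19,16,17,11,15,11,25,21,24,25,22,25,32,32,29,28,32,27,36,36,34,45,44,41],
  [20,15,20,15,13,24,21,21,23,22,22,32,30,28,32,27,31,29,40,35,35,40,43,41],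
  [17,20,16,12,19,11,24,24,26,24,24,26,32,27,27,29,31,36,45,43,41],
  [14,20,14,20,20,13,23,23,22,22,24,31,30,31,29,28,35,33,33,33,45,43],
  [17,19,15,14,20,15,21,24,24,26,22,23,29,29,32,32,28,36,38,33,33],
  [16,18,20,18,15,11,26,24,26,21,21,25,24,27,30,31,29,28,30,35,40,35,38,33,45,44],
  [18,20,16,20,12,19,23,23,25,25,25,21,25,29,31,29,28,31,27,40,35,35,39,33,43,41],
  [20,12,14,12,14,17,25,21,23,22,22,23,31,30,31,29,29,28,30,39,36,40,38,43],
  [14,20,15,18,19,14,26,21,21,23,22,26,27,27,27,31,28,35,34,40,45,44,41],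
  [20,13,15,11,15,25,25,22,23,23,21,21,32,30,28,31,29,31,35,38,34,39,45,41,41],
  [11,19,19,15,18,25,21,21,23,23,21,21,32,27,31,27,32,33,33,39,36,34],
  [18,15,14,17,16,12,26,26,22,26,22,22,22,31,30,31,31,31,30,33,38,36,37],
  [14,19,15,20,17,21,21,23,21,25,30,27,32,27,32,29,38,40,33,33,43,41],
  [18,16,20,15,19,13,26,26,24,25,25,21,23,29,32,29,27,32,29,36,34,36,36,34,45,41,41],
  [20,18,15,17,19,14,11,24,24,22,23,26,28,28,31,30,32,30,37,39,35,35,33,43],
  [11,17,16,16,13,18,24,25,23,23,22,22,22,32,27,30,28,29,28,36,40,40,33,33,42],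
  [17,19,17,16,18,11,23,21,21,23,26,28,30,31,31,31,27,33,36,38,39,45,41,41],
  [15,13,20,16,17,15,23,25,21,23,21,25,31,27,29,32,29,31,33,35,39,33,43,41],
  [15,14,17,16,13,26,23,25,24,26,24,21,32,32,29,29,28,29,27,38,39,33,35,45,42],
  [18,16,13,16,14,22,22,23,23,21,25,23,29,31,27,27,32,27,27,38,34,38,36,45,43,41],
  [20,12,19,11,13,12,22,26,22,24,21,30,31,29,27,27,30,27,35,38,39,39,34],
  [12,14,12,20,18,24,24,25,22,25,24,21,30,31,31,31,30,30,27,34,38,39,34,41],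
  [13,18,19,15,18,11,11,24,25,21,25,23,25,29,28,31,27,29,27,27,39,37,35,40,33,45,41],
  [19,13,18,13,15,11,26,21,26,21,24,24,21,27,32,30,30,30,30,33,35,34,36,33,45,44,41],
  [19,18,19,15,18,19,23,26,24,26,22,24,21,31,27,32,27,29,28,38,34,34,36,41],
  [19,14,18,14,17,24,24,25,21,24,25,21,21,30,31,30,28,32,28,30,40,36,33,44],
  [19,17,13,16,20,15,21,21,25,21,25,24,22,27,29,31,30,28,40,35,40,36,34,45,42],
  [20,16,13,20,18,14,22,26,21,23,23,29,32,32,27,30,36,39,34,40,41,41],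
  [16,12,16,18,18,24,26,22,25,23,21,30,27,32,27,30,28,33,38,35,34,45,42],
  [16,19,15,15,18,12,23,22,24,24,22,25,31,27,31,28,32,28,36,33,35,33],
  [20,15,18,19,16,21,26,26,23,26,24,22,30,28,31,30,28,29,27,34,38,33,33,41],
  [13,15,15,19,12,25,21,21,24,21,24,21,30,28,31,29,29,34,40,33,35,42],
  [16,20,11,17,16,16,22,25,23,21,27,31,29,32,28,34,34,35,33,33,45,43,41],
  [17,20,18,15,13,11,26,22,24,26,22,24,31,28,30,27,27,32,27,39,36,38,33,33,45,41,41],
  [19,14,11,15,18,15,24,22,22,25,25,24,21,29,29,31,31,27,27,35,37,35,39,45,41],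
  [17,19,18,16,11,13,25,24,25,25,25,21,21,28,32,29,32,29,32,27,40,37,39,35,35,44],
  [20,11,15,19,16,11,24,21,25,21,21,24,21,23,30,30,28,29,28,31,27,36,39,34,35,33,41],
  [19,18,20,20,11,21,25,21,21,21,26,22,30,31,28,30,32,39,33,40,33,44,41],
  [11,19,15,15,19,13,22,25,22,25,22,25,27,31,31,31,30,30,27,40,40,33,38,44],
  [18,12,16,20,18,15,22,22,23,21,25,29,29,29,28,31,34,40,33,33,35,45,44],
  [15,20,15,20,16,14,25,21,24,21,25,31,31,30,28,32,38,40,36],
  [11,19,17,16,14,18,11,22,23,25,23,21,21,21,21,32,27,27,30,31,28,28,34,34,38,35,34,43,41],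
  [17,15,13,11,19,11,26,26,24,25,21,21,28,32,32,27,31,31,27,36,39,38,36,45,43],
  [16,11,19,22,23,21,23,26,23,29,31,29,27,29,39,39,37,33,37,43],
  [13,15,14,19,14,18,21,26,22,24,24,24,21,32,32,32,28,32,39,36,38,35,45,43],
  [14,20,13,16,14,18,22,22,26,23,23,23,22,29,29,32,29,27,29,28,37,34,39,34,45,44,41],
  [12,19,19,15,14,24,22,25,21,24,22,22,28,30,27,30,32,27,37,36,34,45,44],
  [15,20,16,14,20,16,23,21,26,24,26,21,23,21,29,28,31,29,27,29,28,38,34,38,33,44],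
  [20,18,16,20,13,22,23,21,21,23,21,25,32,30,28,31,31,29,40,37,39,37,44,41],
  [20,16,16,14,18,15,11,23,26,23,26,26,21,24,27,31,28,32,29,28,35,35,39,37],
  [17,17,17,13,18,13,25,23,22,22,23,29,29,31,28,32,28,35,35,35,40,33,45,42],
  [20,20,15,17,11,17,21,25,22,22,25,24,21,29,27,29,31,30,27,37,39,34,37,44],
  [12,12,12,19,19,14,23,26,23,26,23,30,31,30,27,30,27,34,40,40,33,43],
  [13,15,13,20,18,12,25,21,25,24,22,25,22,31,31,30,28,29,31,29,38,36,40,33,44],
  [14,12,20,14,19,18,23,21,26,22,25,25,30,30,30,28,32,28,38,35,35,40,33,43],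
  [11,19,12,16,17,11,23,21,21,23,22,22,29,32,27,27,29,32,27,37,36,34,45],
  [17,15,14,19,11,11,21,24,22,25,30,32,27,32,27,27,35,38,39,37,45,43],
  [14,18,15,17,19,15,26,22,23,23,22,24,26,31,27,30,28,31,27,39,35,34,37,45],
  [17,19,18,16,17,17,26,24,25,21,21,24,22,27,27,31,27,31,36,36,38,43],
  [19,16,18,12,20,22,22,23,23,26,24,21,31,29,28,30,31,30,39,35,37,33,33,45,41],
  [19,14,17,13,24,24,26,26,22,22,22,27,32,29,29,27,37,35,38,40,45,44],
  [18,20,17,17,11,15,23,25,24,21,21,23,22,31,27,27,27,27,39,35,35,39,37,45,41],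
  [11,17,16,20,18,11,22,25,22,25,23,27,31,31,30,30,31,34,40,35,38,33,44,41],
  [20,11,17,16,12,16,21,23,22,24,22,25,22,27,27,30,27,29,39,35,37,37,33,41],
  [17,15,15,20,18,14,22,22,26,26,21,25,22,27,30,31,31,29,31,27,39,33,33,36,33,41],
  [20,16,14,17,14,19,24,22,25,23,25,22,22,30,30,30,31,29,27,34,35,34,35,42],
  [11,17,20,20,17,13,12,23,23,22,24,21,21,32,28,28,28,29,28,40,36,36,33,45,44],
  [17,17,13,15,13,12,26,24,22,24,22,22,22,32,32,32,32,29,31,35,34,37,34,42],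
  [18,12,20,14,11,22,24,24,22,25,22,30,30,27,31,27,29,27,37,39,36,39,34,44],
  [11,15,19,18,13,15,26,26,22,26,22,22,23,29,28,31,29,29,29,38,34,37,44,41],
  [19,17,19,16,16,26,26,21,21,21,24,21,30,28,31,27,30,27,39,43,41],
  [15,13,15,13,20,16,25,25,25,22,22,24,21,31,31,29,28,28,32,27,38,35,35,34,45],
  [20,12,16,19,17,15,21,24,25,23,26,26,21,31,29,27,33,35,39,35,45],
  [19,14,20,15,19,14,25,24,21,26,21,23,25,27,29,29,27,32,30,27,40,35,33,36,42],
  [19,11,17,16,11,22,24,24,24,24,26,32,29,32,30,27,30,39,33,40,45,44,41],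
  [20,15,15,19,17,15,21,23,23,22,26,23,26,28,32,29,32,32,27,34,36,40,38],
  [16,19,18,18,18,11,26,26,24,21,23,21,30,31,29,27,31,40,37,40,34,41],
  [15,19,15,20,12,12,23,22,22,26,26,22,29,29,29,27,29,32,28,40,36,37,34,45,41],
  [12,20,17,15,18,11,26,22,23,26,23,21,21,32,28,32,30,27,29,29,37,33,35,34,43],
  [17,14,20,11,15,14,26,21,24,26,21,25,21,23,29,28,32,32,29,27,35,34,39,37,41,41],
  [16,13,20,16,17,22,23,23,21,26,23,29,28,28,28,35,38,40,37,41,41],
  [18,18,15,14,11,13,11,21,21,23,23,21,25,25,27,29,32,27,32,28,36,34,38,33,45,41,41],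
  [16,12,16,11,11,13,26,22,25,25,24,26,29,32,30,31,28,29,27,34,35,39,33,41,41],
  [12,14,17,20,18,26,22,26,24,22,22,22,28,28,28,28,29,28,35,37,37,33,33,41],
  [13,15,19,18,20,13,25,22,23,26,21,23,23,27,29,32,29,28,28,35,34,37,37,34,45,42],
  [13,18,16,18,12,25,21,24,30,32,28,29,27,30,28,36,37,40,44],
  [14,20,12,12,19,26,21,24,22,22,25,32,28,29,28,28,38,39,33,36,33,41,41],
  [20,15,19,19,13,11,23,26,21,26,23,26,22,29,29,32,29,29,33,37,40,37,43],
  [20,13,20,20,11,13,25,21,24,26,26,21,21,32,27,27,32,29,36,38,35,39,33,45,41],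
  [20,15,15,19,19,11,24,22,23,26,22,24,27,27,30,32,28,32,29,34,35,37,45,43],
  [19,18,16,16,19,17,26,22,23,23,23,25,27,29,31,36,36,37,37,45,43,41],
  [13,18,20,20,23,25,25,22,26,22,27,31,31,28,40,40,34,36,45,42],
  [20,18,14,17,19,19,24,22,23,22,22,26,21,28,30,28,30,28,31,29,39,34,40,33,33,43],
  [13,20,15,13,18,12,26,22,24,21,26,24,31,31,29,28,29,31,36,33,40,34],
  [12,20,13,11,11,15,21,26,26,21,23,26,21,31,29,28,28,28,30,27,34,35,41],
  [16,18,19,17,15,26,23,22,24,26,22,28,29,28,28,29,27,27,39,33,35,38,45,41,41],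
  [18,20,15,20,12,12,23,26,22,23,23,25,23,28,31,30,27,27,30,39,36,39,35,41,41],
  [13,11,19,11,15,18,26,23,26,22,25,22,23,32,30,31,27,29,27,35,35,33,39],
  [13,16,17,19,16,12,23,21,26,24,24,25,22,29,28,30,31,31,27,35,39,34,34,42],
  [16,20,12,14,20,17,21,23,25,23,26,26,23,31,27,31,31,27,30,33,40,40,37,33,41],
  [11,11,15,18,20,15,24,22,24,22,26,24,22,28,28,29,27,31,28,34,34,40,34,45,43,41],
  [17,17,19,15,12,22,24,21,25,23,26,21,21,32,28,32,32,28,28,31,36,36,40,36,45,42],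
  [20,16,16,20,17,13,22,22,24,24,25,23,22,31,27,27,30,30,27,38,35,33,37,45,44]]
noncomputable def pU : List (List ℕ) := [[0,36,24,10],
  [0,29,23,13,24],
  [1,0,32,21,20],
  [2,7,19,13,31],
  [8,14,8,14],
  [0,6,34,27,47],
  [2,13,25,17,31],
  [2,8,34,2,0]]
noncomputable def aK : List ℕ := [11,46]
noncomputable def nK : List (List ℕ × ℕ) := [([],0),
  ([],11),
  ([20,20,20,13,20,12,23,23,22,25,24,22,24,32,30,27,27,31,27,40,36,38,33,44],11),
  ([17,19,12,16,19,13,22,23,25,25,23,26,22,27,30,28,31,29,29,29,36,38,36,41],11),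
  ([19,16,17,17,13,24,26,24,26,26,22,22,32,27,32,30,32,35,40,35,34,45,41],11),
  ([],46),
  ([14,18,18,14,20,26,21,25,21,24,24,22,32,29,28,32,27,30,27,38,33,37,33,45],11),
  ([14,18,18,14,20,26,21,25,21,24,24,22,32,29,28,32,27,30,27,38,33,37,33,45],46),
  ([18,18,15,11,17,14,25,22,22,23,22,25,28,31,30,30,31,28,30,33,36,39,34,43,41],11),
  ([12,16,16,20,12,12,24,26,26,26,21,29,28,32,29,31,30,33,36,34,34,43],11),
  ([20,20,20,13,20,12,23,23,22,25,24,22,24,32,30,27,27,31,27,40,36,38,33,44],46),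
  ([12,19,15,13,18,23,23,21,26,26,26,21,32,29,29,27,29,31,34,36,33,35,41],46),
  ([20,15,20,18,15,11,26,24,26,23,25,29,32,32,30,30,30,40,37,40,33,42],11),
  ([20,16,16,19,15,20,23,25,25,22,22,23,22,27,31,30,30,28,31,28,36,37,34,34,34,45,43,41],11),
  ([20,15,20,18,15,11,26,24,26,23,25,29,32,32,30,30,30,40,37,40,33,42],46),
  ([17,19,12,16,19,13,22,23,25,25,23,26,22,27,30,28,31,29,29,29,36,38,36,41],46),
  ([12,19,15,13,18,23,23,21,26,26,26,21,32,29,29,27,29,31,34,36,33,35,41],11),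
  ([18,18,15,11,17,14,25,22,22,23,22,25,28,31,30,30,31,28,30,33,36,39,34,43,41],46),
  ([15,11,19,18,18,13,24,21,23,26,24,26,23,27,27,29,27,27,32,28,37,35,33,39,33,45],11),
  ([20,16,16,19,15,20,23,25,25,22,22,23,22,27,31,30,30,28,31,28,36,37,34,34,34,45,43,41],46),
  ([19,16,17,17,13,24,26,24,26,26,22,22,32,27,32,30,32,35,40,35,34,45,41],46),
  ([15,11,19,18,18,13,24,21,23,26,24,26,23,27,27,29,27,27,32,28,37,35,33,39,33,45],46),
  ([12,16,16,20,12,12,24,26,26,26,21,29,28,32,29,31,30,33,36,34,34,43],46)]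
noncomputable def rT : List (List ℕ × ℕ) := [([0,1,0,1,0,1,0,1,0,1],440976),
  ([0,1,0,1,0,1,0,1,0,1],1315536),
  ([0,0,1,0,0,1,0,1,0,0,1,0,0,1,0,1,0,0,1,0,0,1,0,1,0,0,1,0,0,1,0,1],94656),
  ([0,0,0,1,0,1,0,1,0,0,0,1,0,1,0,1,0,0,0,1,0,1,0,1,0,0,0,1,0,1,0,1,0,0,0,1,0,1,0,1],1155912),
  ([0,0,1,1,0,1,0,0,1,1,0,1,0,0,1,1,0,1,0,0,1,1,0,1,0,0,1,1,0,1,0,0,1,1,0,1],2257776)]
noncomputable def uu : List (List ℕ) := [[12,12]]
noncomputable def wT : Tr ℕ := (.node (.node (.node (.node (.node (.node (.node (.node (.leaf wx0) (.leaf wx128)) (.leaf wx64)) (.node (.leaf wx32) (.leaf wx96))) (.node (.node (.leaf wx16) (.leaf wx80)) (.node (.leaf wx48) (.leaf wx112)))) (.node (.node (.node (.leaf wx8) (.leaf wx72)) (.node (.leaf wx40) (.leaf wx104))) (.node (.node (.leaf wx24) (.leaf wx88)) (.node (.leaf wx56) (.leaf wx120))))) (.node (.node (.node (.node (.leaf wx4) (.leaf wx68)) (.node (.leaf wx36) (.leaf wx100))) (.node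 (.node (.leaf wx20) (.leaf wx84)) (.node (.leaf wx52) (.leaf wx116)))) (.node (.node (.node (.leaf wx12) (.leaf wx76)) (.node (.leaf wx44) (.leaf wx108))) (.node (.node (.leaf wx28) (.leaf wx92)) (.node (.leaf wx60) (.leaf wx124)))))) (.node (.node (.node (.node (.node (.node (.leaf wx2) (.leaf wx130)) (.leaf wx66)) (.node (.leaf wx34) (.leaf wx98))) (.node (.node (.leaf wx18) (.leaf wx82)) (.node (.leaf wx50) (.leaf wx114)))) (.node (.node (.node (.leaf wx10) (.leaf wx74)) (.node (.leaf wx42) (.leaf wx106))) (.node (.node (.leaf wx26) (.leaf wx90)) (.node (.leaf wx58) (.leaf wx122))))) (.node (.node (.node (.node (.leaf wx6) (.leaf wx70)) (.node (.leaf wx38) (.leaf wx102))) (.node (.node (.leaf wx22) (.leaf wx86)) (.node (.leaf wx54) (.leaf wx118)))) (.node (.node (.node (.leaf wx14) (.leaf wx78)) (.node (.leaf wx46) (.leaf wx110))) (.node (.node (.leaf wx30) (.leaf wx94)) (.node (.leaf wx62) (.leaf wx126)))))))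 (.node (.node (.node (.node (.node (.node (.node (.leaf wx1) (.leaf wx129)) (.leaf wx65)) (.node (.leaf wx33) (.leaf wx97))) (.node (.node (.leaf wx17) (.leaf wx81)) (.node (.leaf wx49) (.leaf wx113)))) (.node (.node (.node (.leaf wx9) (.leaf wx73)) (.node (.leaf wx41) (.leaf wx105))) (.node (.node (.leaf wx25) (.leaf wx89)) (.node (.leaf wx57) (.leaf wx121))))) (.node (.node (.node (.node (.leaf wx5) (.leaf wx69)) (.node (.leaf wx37) (.leaf wx101))) (.node (.node (.leaf wx21) (.leaf wx85)) (.node (.leaf wx53) (.leaf wx117)))) (.node (.node (.node (.leaf wx13) (.leaf wx77)) (.node (.leaf wx45) (.leaf wx109))) (.node (.node (.leaf wx29) (.leaf wx93)) (.node (.leaf wx61) (.leaf wx125)))))) (.node (.node (.node (.node (.node (.node (.leaf wx3) (.leaf wx131)) (.leaf wx67)) (.node (.leaf wx35) (.leaf wx99))) (.node (.node (.leaf wx19) (.leaf wx83)) (.node (.leaf wx51) (.leaf wx115)))) (.node (.node (.node (.leaf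 wx11) (.leaf wx75)) (.node (.leaf wx43) (.leaf wx107))) (.node (.node (.leaf wx27) (.leaf wx91)) (.node (.leaf wx59) (.leaf wx123))))) (.node (.node (.node (.node (.leaf wx7) (.leaf wx71)) (.node (.leaf wx39) (.leaf wx103))) (.node (.node (.leaf wx23) (.leaf wx87)) (.node (.leaf wx55) (.leaf wx119)))) (.node (.node (.node (.leaf wx15) (.leaf wx79)) (.node (.leaf wx47) (.leaf wx111))) (.node (.node (.leaf wx31) (.leaf wx95)) (.node (.leaf wx63) (.leaf wx127))))))))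
noncomputable def en : Enum := ⟨inv, 8, 255, 5, fun i => force (Nat.shiftRight i 10) fun c => look 0xffffffffff (wT.get c) (Nat.mul 40 (Nat.land i 1023)), 13, [2259960,979728,1542528], 16777216⟩
noncomputable def wT1 : Tr ℕ := (.leaf 0)
noncomputable def en1 : Enum := ⟨inv, 8, 255, 5, fun i => force (Nat.shiftRight i 10) fun c => look 0xffffffffff (wT1.get c) (Nat.mul 40 (Nat.land i 1023)), 13, [347520], 16777216⟩
noncomputable def off (x : ℕ) : ℕ := lk2 offT 0xffffff x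
noncomputable def tst : (ℕ → ℕ) → Bool := outTest (appB tabs t60 0xffffff) bs aK rT [(11, 13)] uu

end Cfsg.Agent.CG.Co1
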