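import Cfsg.Agent.Lib.CG.Big2
import Cfsg.Agent.Lib.Grp.Co1.OC0
import Cfsg.Agent.Lib.Grp.Co1.OC1
import Cfsg.Agent.Lib.Grp.Co1.OC2
import Cfsg.Agent.Lib.Grp.Co1.OC3
import Cfsg.Agent.Lib.Grp.Co1.OC4
import Cfsg.Agent.Lib.Grp.Co1.OC5
import Cfsg.Agent.Lib.Grp.Co1.Main

set_option autoImplicit false
set_option maxRecDepth 100000
set_option Elab.async false
set_option linter.unusedSectionVars false

namespace Cfsg.Agent.CG.Co1

theorem chainC : ChainOK act cc [] :=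
  chainOK_of_chk act cc [] (by simp) (okc_of_okcb Oc328) Oc329
  (allL_cons (rapp (cc0.chk (appB tabs t60 0xffffff)) (fun _ _ _ => Lvl.chk_append) 98279 (rapp (cc0.chk (appB tabs t60 0xffffff)) (fun _ _ _ => Lvl.chk_append) 80000 (rapp (cc0.chk (appB tabs t60 0xffffff)) (fun _ _ _ => Lvl.chk_append) 60000 (rapp (cc0.chk (appB tabs t60 0xffffff)) (fun _ _ _ => Lvl.chk_append) 40000 Oc320 Oc321 rfl rfl) Oc322 rfl rfl) Oc323 rfl rfl) Oc324 rfl rfl) (allL_cons (rapp (cc1.chk (appB tabs t60 0xffffff)) (fun _ _ _ => Lvl.chk_append) 20735 Oc325 Oc326 rfl rfl) (allL_cons Oc327 (allL_nil _))))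

variable [hle : Fact (Nat.card PG ≤ 4157776806543360000)]
include hle

theorem cardP : Nat.card (cl act.gen pS) = 13 ^ 1 :=
  card_cl_singleton base (by norm_num) (by decide +kernel) (by decide +kernel)

theorem centP : ∀ g ∈ Subgroup.centralizer (cl act.gen pS : Set PG), ∃ φ ∈ pF, g = ev act.gen φ :=
  centralizer_subset (l := mc0) (L := [mc1, mc2, mc3, mc4]) chain card_le base (Q := pQ) (Rf := pR) (by decide +kernel) (by decide +kernel) (by decide +kernel)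
    (rapp (trChk (appB tabs t60 0xffffff) mc0 [mc1, mc2, mc3, mc4] bs (diagQ pQ) (diagQ pR) pF) (fun _ _ _ => trChk_append) 98280 (rapp (trChk (appB tabs t60 0xffffff) mc0 [mc1, mc2, mc3, mc4] bs (diagQ pQ) (diagQ pR) pF) (fun _ _ _ => trChk_append) 98175 (rapp (trChk (appB tabs t60 0xffffff) mc0 [mc1, mc2, mc3, mc4] bs (diagQ pQ) (diagQ pR) pF) (fun _ _ _ => trChk_append) 96390 (rapp (trChk (appB tabs t60 0xffffff) mc0 [mc1, mc2, mc3, mc4] bs (diagQ pQ) (diagQ pR) pF) (fun _ _ _ => trChk_append) 94605 (rapp (trChk (appB tabs t60 0xffffff) mc0 [mc1, mc2, mc3, mc4] bs (diagQ pQ) (diagQ pR) pF) (fun _ _ _ => trChk_append) 92820 (rapp (trChk (appB tabs t60 0xffffff) mc0 [mc1, mc2, mc3, mc4] bs (diagQ pQ) (diagQ pR) pF) (fun _ _ _ => trChk_append) 91035 (rapp (trChk (appB tabs t60 0xffffff) mc0 [mc1, mc2, mc3, mc4] bs (diagQ pQ) (diagQ pR) pF) (fun _ _ _ => trChk_append) 89250 (rapp (trChk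 (appB tabs t60 0xffffff) mc0 [mc1, mc2, mc3, mc4] bs (diagQ pQ) (diagQ pR) pF) (fun _ _ _ => trChk_append) 87465 (rapp (trChk (appB tabs t60 0xffffff) mc0 [mc1, mc2, mc3, mc4] bs (diagQ pQ) (diagQ pR) pF) (fun _ _ _ => trChk_append) 85680 (rapp (trChk (appB tabs t60 0xffffff) mc0 [mc1, mc2, mc3, mc4] bs (diagQ pQ) (diagQ pR) pF) (fun _ _ _ => trChk_append) 83895 (rapp (trChk (appB tabs t60 0xffffff) mc0 [mc1, mc2, mc3, mc4] bs (diagQ pQ) (diagQ pR) pF) (fun _ _ _ => trChk_append) 82110 (rapp (trChk (appB tabs t60 0xffffff) mc0 [mc1, mc2, mc3, mc4] bs (diagQ pQ) (diagQ pR) pF) (fun _ _ _ => trChk_append) 80325 (rapp (trChk (appB tabs t60 0xffffff) mc0 [mc1, mc2, mc3, mc4] bs (diagQ pQ) (diagQ pR) pF) (fun _ _ _ => trChk_append) 78540 (rapp (trChk (appB tabs t60 0xffffff) mc0 [mc1, mc2, mc3, mc4] bs (diagQ pQ) (diagQ pR) pF) (fun _ _ _ => trChk_append) 76755 (rapp (trChk (appB tabs t60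 0xffffff) mc0 [mc1, mc2, mc3, mc4] bs (diagQ pQ) (diagQ pR) pF) (fun _ _ _ => trChk_append) 74970 (rapp (trChk (appB tabs t60 0xffffff) mc0 [mc1, mc2, mc3, mc4] bs (diagQ pQ) (diagQ pR) pF) (fun _ _ _ => trChk_append) 73185 (rapp (trChk (appB tabs t60 0xffffff) mc0 [mc1, mc2, mc3, mc4] bs (diagQ pQ) (diagQ pR) pF) (fun _ _ _ => trChk_append) 71400 (rapp (trChk (appB tabs t60 0xffffff) mc0 [mc1, mc2, mc3, mc4] bs (diagQ pQ) (diagQ pR) pF) (fun _ _ _ => trChk_append) 69615 (rapp (trChk (appB tabs t60 0xffffff) mc0 [mc1, mc2, mc3, mc4] bs (diagQ pQ) (diagQ pR) pF) (fun _ _ _ => trChk_append) 67830 (rapp (trChk (appB tabs t60 0xffffff) mc0 [mc1, mc2, mc3, mc4] bs (diagQ pQ) (diagQ pR) pF) (fun _ _ _ => trChk_append) 66045 (rapp (trChk (appB tabs t60 0xffffff) mc0 [mc1, mc2, mc3, mc4] bs (diagQ pQ) (diagQ pR) pF) (fun _ _ _ => trChk_append) 64260 (rapp (trChk (appB tabs t60 0xffffff) mc0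 [mc1, mc2, mc3, mc4] bs (diagQ pQ) (diagQ pR) pF) (fun _ _ _ => trChk_append) 62475 (rapp (trChk (appB tabs t60 0xffffff) mc0 [mc1, mc2, mc3, mc4] bs (diagQ pQ) (diagQ pR) pF) (fun _ _ _ => trChk_append) 60690 (rapp (trChk (appB tabs t60 0xffffff) mc0 [mc1, mc2, mc3, mc4] bs (diagQ pQ) (diagQ pR) pF) (fun _ _ _ => trChk_append) 58905 (rapp (trChk (appB tabs t60 0xffffff) mc0 [mc1, mc2, mc3, mc4] bs (diagQ pQ) (diagQ pR) pF) (fun _ _ _ => trChk_append) 57120 (rapp (trChk (appB tabs t60 0xffffff) mc0 [mc1, mc2, mc3, mc4] bs (diagQ pQ) (diagQ pR) pF) (fun _ _ _ => trChk_append) 55335 (rapp (trChk (appB tabs t60 0xffffff) mc0 [mc1, mc2, mc3, mc4] bs (diagQ pQ) (diagQ pR) pF) (fun _ _ _ => trChk_append) 53550 (rapp (trChk (appB tabs t60 0xffffff) mc0 [mc1, mc2, mc3, mc4] bs (diagQ pQ) (diagQ pR) pF) (fun _ _ _ => trChk_append) 51765 (rapp (trChk (appB tabs t60 0xffffff) mc0 [mc1, mc2, mc3,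 mc4] bs (diagQ pQ) (diagQ pR) pF) (fun _ _ _ => trChk_append) 49980 (rapp (trChk (appB tabs t60 0xffffff) mc0 [mc1, mc2, mc3, mc4] bs (diagQ pQ) (diagQ pR) pF) (fun _ _ _ => trChk_append) 48195 (rapp (trChk (appB tabs t60 0xffffff) mc0 [mc1, mc2, mc3, mc4] bs (diagQ pQ) (diagQ pR) pF) (fun _ _ _ => trChk_append) 46410 (rapp (trChk (appB tabs t60 0xffffff) mc0 [mc1, mc2, mc3, mc4] bs (diagQ pQ) (diagQ pR) pF) (fun _ _ _ => trChk_append) 44625 (rapp (trChk (appB tabs t60 0xffffff) mc0 [mc1, mc2, mc3, mc4] bs (diagQ pQ) (diagQ pR) pF) (fun _ _ _ => trChk_append) 42840 (rapp (trChk (appB tabs t60 0xffffff) mc0 [mc1, mc2, mc3, mc4] bs (diagQ pQ) (diagQ pR) pF) (fun _ _ _ => trChk_append) 41055 (rapp (trChk (appB tabs t60 0xffffff) mc0 [mc1, mc2, mc3, mc4] bs (diagQ pQ) (diagQ pR) pF) (fun _ _ _ => trChk_append) 39270 (rapp (trChk (appB tabs t60 0xffffff) mc0 [mc1, mc2, mc3, mc4] bs (diagQ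 pQ) (diagQ pR) pF) (fun _ _ _ => trChk_append) 37485 (rapp (trChk (appB tabs t60 0xffffff) mc0 [mc1, mc2, mc3, mc4] bs (diagQ pQ) (diagQ pR) pF) (fun _ _ _ => trChk_append) 35700 (rapp (trChk (appB tabs t60 0xffffff) mc0 [mc1, mc2, mc3, mc4] bs (diagQ pQ) (diagQ pR) pF) (fun _ _ _ => trChk_append) 33915 (rapp (trChk (appB tabs t60 0xffffff) mc0 [mc1, mc2, mc3, mc4] bs (diagQ pQ) (diagQ pR) pF) (fun _ _ _ => trChk_append) 32130 (rapp (trChk (appB tabs t60 0xffffff) mc0 [mc1, mc2, mc3, mc4] bs (diagQ pQ) (diagQ pR) pF) (fun _ _ _ => trChk_append) 30345 (rapp (trChk (appB tabs t60 0xffffff) mc0 [mc1, mc2, mc3, mc4] bs (diagQ pQ) (diagQ pR) pF) (fun _ _ _ => trChk_append) 28560 (rapp (trChk (appB tabs t60 0xffffff) mc0 [mc1, mc2, mc3, mc4] bs (diagQ pQ) (diagQ pR) pF) (fun _ _ _ => trChk_append) 26775 (rapp (trChk (appB tabs t60 0xffffff) mc0 [mc1, mc2, mc3, mc4] bs (diagQ pQ) (diagQ pR)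 pF) (fun _ _ _ => trChk_append) 24990 (rapp (trChk (appB tabs t60 0xffffff) mc0 [mc1, mc2, mc3, mc4] bs (diagQ pQ) (diagQ pR) pF) (fun _ _ _ => trChk_append) 23205 (rapp (trChk (appB tabs t60 0xffffff) mc0 [mc1, mc2, mc3, mc4] bs (diagQ pQ) (diagQ pR) pF) (fun _ _ _ => trChk_append) 21420 (rapp (trChk (appB tabs t60 0xffffff) mc0 [mc1, mc2, mc3, mc4] bs (diagQ pQ) (diagQ pR) pF) (fun _ _ _ => trChk_append) 19635 (rapp (trChk (appB tabs t60 0xffffff) mc0 [mc1, mc2, mc3, mc4] bs (diagQ pQ) (diagQ pR) pF) (fun _ _ _ => trChk_append) 17850 (rapp (trChk (appB tabs t60 0xffffff) mc0 [mc1, mc2, mc3, mc4] bs (diagQ pQ) (diagQ pR) pF) (fun _ _ _ => trChk_append) 16065 (rapp (trChk (appB tabs t60 0xffffff) mc0 [mc1, mc2, mc3, mc4] bs (diagQ pQ) (diagQ pR) pF) (fun _ _ _ => trChk_append) 14280 (rapp (trChk (appB tabs t60 0xffffff) mc0 [mc1, mc2, mc3, mc4] bs (diagQ pQ) (diagQ pR) pF) (fun _ _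 _ => trChk_append) 12495 (rapp (trChk (appB tabs t60 0xffffff) mc0 [mc1, mc2, mc3, mc4] bs (diagQ pQ) (diagQ pR) pF) (fun _ _ _ => trChk_append) 10710 (rapp (trChk (appB tabs t60 0xffffff) mc0 [mc1, mc2, mc3, mc4] bs (diagQ pQ) (diagQ pR) pF) (fun _ _ _ => trChk_append) 8925 (rapp (trChk (appB tabs t60 0xffffff) mc0 [mc1, mc2, mc3, mc4] bs (diagQ pQ) (diagQ pR) pF) (fun _ _ _ => trChk_append) 7140 (rapp (trChk (appB tabs t60 0xffffff) mc0 [mc1, mc2, mc3, mc4] bs (diagQ pQ) (diagQ pR) pF) (fun _ _ _ => trChk_append) 5355 (rapp (trChk (appB tabs t60 0xffffff) mc0 [mc1, mc2, mc3, mc4] bs (diagQ pQ) (diagQ pR) pF) (fun _ _ _ => trChk_append) 3570 Oc330 Oc331 rfl rfl) Oc332 rfl rfl) Oc333 rfl rfl) Oc334 rfl rfl) Oc335 rfl rfl) Oc336 rfl rfl) Oc337 rfl rfl) Oc338 rfl rfl) Oc339 rfl rfl) Oc340 rfl rfl) Oc341 rfl rfl) Oc342 rfl rfl) Oc343 rfl rfl) Oc344 rfl rfl) Oc345 rfl rfl) Oc346 rfl rfl)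 Oc347 rfl rfl) Oc348 rfl rfl) Oc349 rfl rfl) Oc350 rfl rfl) Oc351 rfl rfl) Oc352 rfl rfl) Oc353 rfl rfl) Oc354 rfl rfl) Oc355 rfl rfl) Oc356 rfl rfl) Oc357 rfl rfl) Oc358 rfl rfl) Oc359 rfl rfl) Oc360 rfl rfl) Oc361 rfl rfl) Oc362 rfl rfl) Oc363 rfl rfl) Oc364 rfl rfl) Oc365 rfl rfl) Oc366 rfl rfl) Oc367 rfl rfl) Oc368 rfl rfl) Oc369 rfl rfl) Oc370 rfl rfl) Oc371 rfl rfl) Oc372 rfl rfl) Oc373 rfl rfl) Oc374 rfl rfl) Oc375 rfl rfl) Oc376 rfl rfl) Oc377 rfl rfl) Oc378 rfl rfl) Oc379 rfl rfl) Oc380 rfl rfl) Oc381 rfl rfl) Oc382 rfl rfl) Oc383 rfl rfl) Oc384 rfl rfl) Oc385 rfl rfl)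

theorem autT (φ : MulAut PG) : ∃ g : PG, φ (act.gen 13) = g * act.gen 13 * g⁻¹ :=
  aut_class base (r := 13) (by norm_num) cardP (not_dvd_of_eq card (by decide +kernel)) centP
    Oc386 φ

theorem autA (φ : MulAut PG) : ∃ g : PG, ∃ a' ∈ aK, g * φ (act.gen 11) * g⁻¹ = act.gen a' :=
  aut_pow base (p := 23) (by norm_num) (not_dvd_of_eq card (by decide +kernel))
    Oc387 φ

theorem enumOK : en.OK app (tst0 off 1562280 tst) 0 134400 0 662941163032627276273 :=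
  (Enum.OK.append (Enum.OK.append (Enum.OK.append (Enum.OK.append (Enum.OK.append (Enum.OK.append (Enum.OK.append (Enum.OK.append (Enum.OK.append (Enum.OK.append (Enum.OK.append (Enum.OK.append (Enum.OK.append (Enum.OK.append (Enum.OK.append (Enum.OK.append (Enum.OK.append (Enum.OK.append (Enum.OK.append (Enum.OK.append (Enum.OK.append (Enum.OK.append (Enum.OK.append (Enum.OK.append (Enum.OK.append (Enum.OK.append (Enum.OK.append (Enum.OK.append (Enum.OK.append (Enum.OK.append (Enum.OK.append (Enum.OK.append (Enum.OK.append (Enum.OK.append (Enum.OK.append (Enum.OK.append (Enum.OK.append (Enum.OK.append (Enum.OK.append (Enum.OK.append (Enum.OK.append (Enum.OK.append (Enum.OK.append (Enum.OK.append (Enum.OK.append (Enum.OK.append (Enum.OK.append (Enum.OK.append (Enum.OK.append (Enum.OK.append (Enum.OK.append (Enum.OK.append (Enum.OK.append (Enum.OK.append (Enum.OK.append (Enum.OK.append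 (Enum.OK.append (Enum.OK.append (Enum.OK.append (Enum.OK.append (Enum.OK.append (Enum.OK.append (Enum.OK.append (Enum.OK.append (Enum.OK.append (Enum.OK.append (Enum.OK.append (Enum.OK.append (Enum.OK.append (Enum.ok_of_chk Oc388)
  (Enum.ok_of_chk Oc389))
  (Enum.ok_of_chk Oc390))
  (Enum.ok_of_chk Oc391))
  (Enum.ok_of_chk Oc392))
  (Enum.ok_of_chk Oc393))
  (Enum.ok_of_chk Oc394))
  (Enum.ok_of_chk Oc395))
  (Enum.ok_of_chk Oc396))
  (Enum.ok_of_chk Oc397))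
  (Enum.ok_of_chk Oc398))
  (Enum.ok_of_chk Oc399))
  (Enum.ok_of_chk Oc400))
  (Enum.ok_of_chk Oc401))
  (Enum.ok_of_chk Oc402))
  (Enum.ok_of_chk Oc403))
  (Enum.ok_of_chk Oc404))
  (Enum.ok_of_chk Oc405))
  (Enum.ok_of_chk Oc406))
  (Enum.ok_of_chk Oc407))
  (Enum.ok_of_chk Oc408))
  (Enum.ok_of_chk Oc409))
  (Enum.ok_of_chk Oc410))
  (Enum.ok_of_chk Oc411))
  (Enum.ok_of_chk Oc412))
  (Enum.ok_of_chk Oc413))
  (Enum.ok_of_chk Oc414))
  (Enum.ok_of_chk Oc415))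
  (Enum.ok_of_chk Oc416))
  (Enum.ok_of_chk Oc417))
  (Enum.ok_of_chk Oc418))
  (Enum.ok_of_chk Oc419))
  (Enum.ok_of_chk Oc420))
  (Enum.ok_of_chk Oc421))
  (Enum.ok_of_chk Oc422))
  (Enum.ok_of_chk Oc423))
  (Enum.ok_of_chk Oc424))
  (Enum.ok_of_chk Oc425))
  (Enum.ok_of_chk Oc426))
  (Enum.ok_of_chk Oc427))
  (Enum.ok_of_chk Oc428))
  (Enum.ok_of_chk Oc429))
  (Enum.ok_of_chk Oc430))
  (Enum.ok_of_chk Oc431))
  (Enum.ok_of_chk Oc432))
  (Enum.ok_of_chk Oc433))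
  (Enum.ok_of_chk Oc434))
  (Enum.ok_of_chk Oc435))
  (Enum.ok_of_chk Oc436))
  (Enum.ok_of_chk Oc437))
  (Enum.ok_of_chk Oc438))
  (Enum.ok_of_chk Oc439))
  (Enum.ok_of_chk Oc440))
  (Enum.ok_of_chk Oc441))
  (Enum.ok_of_chk Oc442))
  (Enum.ok_of_chk Oc443))
  (Enum.ok_of_chk Oc444))
  (Enum.ok_of_chk Oc445))
  (Enum.ok_of_chk Oc446))
  (Enum.ok_of_chk Oc447))
  (Enum.ok_of_chk Oc448))
  (Enum.ok_of_chk Oc449))
  (Enum.ok_of_chk Oc450))
  (Enum.ok_of_chk Oc451))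
  (Enum.ok_of_chk Oc452))
  (Enum.ok_of_chk Oc453))
  (Enum.ok_of_chk Oc454))
  (Enum.ok_of_chk Oc455))
  (Enum.ok_of_chk Oc456))
  (Enum.ok_of_chk Oc457))

theorem enumOK1 : en1.OK app (tst1 off 1562280 23 tst) 0 0 0 0 :=
  (Enum.ok_of_chk Oc458)

theorem cent_le : prodN cc ≤ Nat.card (Subgroup.centralizer {act.gen 13}) :=
  le_card_centralizer base chainC Oc459

theorem offOK : OffOK (okc 98280 24) (app 11) 23 off :=
  offOK_of_chk (rapp (offChk 24 (appB tabs t60 0xffffff) 11 23 off) (fun _ _ _ => offChk_append) 98280 (rapp (offChk 24 (appB tabs t60 0xffffff) 11 23 off) (fun _ _ _ => offChk_append) 80000 (rapp (offChk 24 (appB tabs t60 0xffffff) 11 23 off) (fun _ _ _ => offChk_append) 60000 (rapp (offChk 24 (appB tabs t60 0xffffff) 11 23 off) (fun _ _ _ => offChk_append) 40000 Oc460 Oc461 rfl rfl) Oc462 rfl rfl) Oc463 rfl rfl) Oc464 rfl rfl)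

theorem classAll (g : PG) : ∃ k : ℕ, ∃ f, act.Rep ((act.gen 11 ^ k)⁻¹ * (g * act.gen 13 * g⁻¹) * act.gen 11 ^ k) f ∧ tst f = true :=
  Enum.OK.all2 (A := act) (E := en) (E' := en1) enumOK enumOK1 rfl hinv hinv (okc_of_okcb (n := 98280) (w := 24) (by decide +kernel)) (okc_of_okcb (n := 98280) (w := 24) (by decide +kernel))
    ⟨65095, by decide, rfl⟩ ((beq_iff _ _).1 (show Nat.beq (app 11 1562280) 1562280 = true by decide +kernel)) (by decide) offOK cent_le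
    (card ▸ (ble_iff _ _).1 (by decide +kernel)) g

theorem autPair (φ : MulAut PG) : ∃ s ∈ [(11, 13)], ∃ g : PG, φ (act.gen 11) = g * act.gen s.1 * g⁻¹ ∧ φ (act.gen 13) = g * act.gen s.2 * g⁻¹ :=
  aut_pair2 base Oc465 (okc_of_okcb (n := 98280) (w := 24) (by decide +kernel)) (by decide +kernel) autA autT classAll φ

theorem card_out : Nat.card (Out PG) = 1 := card_out_eq_one clAT autPair

end Cfsg.Agent.CG.Co1
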